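import Cfsg.Agent.H17.HeisDegree.RootCount
import Cfsg.Agent.H17.HeisDegree.Abstract
import Cfsg.Agent.H52.DataG2

/-!
Root groups of `G₂(q)` acting on joint eigenvectors in a complex representation.
-/

set_option autoImplicit false
set_option linter.unusedSectionVars false

namespace H34.GTwoDeg

open Cfsg.Lie H52
open H17.HeisDeg H17.HeisDeg.RootAct

section Chars

variable {F : Type*} [Field F] [Fintype F]

theorem exists_chScale {ψ : AddChar F ℂ} (hψ : ψ ≠ 1) (χ : AddChar F ℂ) :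
    ∃ μ : F, chScale ψ μ = χ := by
  obtain ⟨b, hb⟩ := pairing_bijective (P := F) (Q := F) (fun a c => a * c) (fun a b c => add_mul a b c)
    (fun a b c => mul_add a b c) (fun t ht e => ⟨e / t, mul_div_cancel₀ e ht⟩) hψ χ
  exact ⟨b, DFunLike.ext _ _ hb⟩

theorem chScale_chScale (χ : AddChar F ℂ) (μ ν : F) :
    chScale (chScale χ μ) ν = chScale χ (μ * ν) :=
  DFunLike.ext _ _ fun t => by simp [chScale_apply, mul_assoc]

theorem chScale_id (χ : AddChar F ℂ) : chScale χ 1 = χ :=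
  DFunLike.ext _ _ fun t => by simp [chScale_apply]

theorem chScale_nil (χ : AddChar F ℂ) : chScale χ 0 = 1 :=
  DFunLike.ext _ _ fun t => by simp [chScale_apply]

theorem chScale_inj {χ : AddChar F ℂ} (hχ : χ ≠ 1) : Function.Injective (chScale χ) := by
  intro a b h
  by_contra hne
  refine chScale_ne_one hχ (sub_ne_zero.2 hne) (DFunLike.ext _ _ fun t => ?_)
  have h1 : χ (a * t) = χ (b * t) := DFunLike.congr_fun h t
  rw [chScale_apply, sub_mul, AddChar.map_sub_eq_div, h1,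
    div_self (AddChar.val_isUnit χ (b * t)).ne_zero]
  rfl

theorem exists_ne_one : ∃ ψ : AddChar F ℂ, ψ ≠ 1 := by
  haveI : Nontrivial (AddChar F ℂ) := Fintype.one_lt_card_iff_nontrivial.1 (by
    rw [AddChar.card_eq]; exact Fintype.one_lt_card)
  exact exists_ne 1

theorem eq_one_of_chScale_eq {χ : AddChar F ℂ} {μ : F} (hμ : μ ≠ 1) (h : chScale χ μ = χ) :
    χ = 1 := by
  by_contra hχ
  exact hμ (chScale_inj hχ (h.trans (chScale_id χ).symm))

theorem card_chars : Fintype.card (AddChar F ℂ) = Fintype.card F := AddChar.card_eq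

open Classical in
theorem card_ne_one_chars :
    (Finset.univ.erase (1 : AddChar F ℂ)).card = Fintype.card F - 1 := by
  rw [Finset.card_erase_of_mem (Finset.mem_univ _), Finset.card_univ, card_chars]

/-- The numeral three is invertible unless `3 ∣ q`. -/
theorem three_ne_zero_of_card (h : Fintype.card F % 3 ≠ 0) : (3 : F) ≠ 0 := by
  intro h3
  obtain ⟨p, hp⟩ := CharP.exists F
  haveI := hp
  obtain ⟨n, hpr, hn⟩ := FiniteField.card F p
  have h3' : ((3 : ℕ) : F) = 0 := by exact_mod_cast h3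
  have : p ∣ 3 := (CharP.cast_eq_zero_iff F p 3).1 h3'
  rcases (Nat.dvd_prime Nat.prime_three).1 this with rfl | rfl
  · exact hpr.ne_one rfl
  · exact h (Nat.mod_eq_zero_of_dvd (hn ▸ dvd_pow_self 3 n.2.ne'))

end Chars

variable {F : Type*} [Field F]

/-- A root element of `G₂`. -/
noncomputable def x (r : ℕ) (t : F) : ↥(chevG2.group F) := xe checkedG2 r t

theorem x_add (r : ℕ) (t u : F) : x r (t + u) = x r t * x r u := xe_add _ r t u

theorem x_zero (r : ℕ) : x r (0 : F) = 1 := xe_zero _ r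

theorem x_inv (r : ℕ) (t : F) : (x r t)⁻¹ = x r (-t) := xe_inv _ r t

/-- The pair `a`, `b` has the given commutator terms. -/
def pairOK (a b : ℕ) (l : List (ℕ × ℤ × ℕ × ℕ)) : Bool :=
  decide (a < 12) && decide (b < 12) && (b != a) && (b != chevG2.neg a) &&
    (chevG2.commTerms a b == l)

theorem x_swap {a b : ℕ} {l : List (ℕ × ℤ × ℕ × ℕ)} (h : pairOK a b l = true) (t u : F) :
    x b u * x a t = x a t * x b u *
      (l.map fun e => x e.1 ((e.2.1 : F) * (-t) ^ e.2.2.1 * u ^ e.2.2.2)).prod := by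
  simp only [pairOK, Bool.and_eq_true, decide_eq_true_eq, bne_iff_ne, ne_eq, beq_iff_eq] at h
  obtain ⟨⟨⟨⟨ha, hb⟩, hne⟩, hneg⟩, hl⟩ := h
  have hn : chevG2.nroots = 12 := by decide
  have := checkedG2.comm_rt (F := F) (hn ▸ ha) (hn ▸ hb) hne hneg t u
  rw [ChevalleyDatum.commWord, hl, wordRt, List.map_map] at this
  apply Subtype.ext
  simp only [Subgroup.coe_mul, SubmonoidClass.coe_list_prod, List.map_map]
  exact this

variable {V : Type*} [AddCommGroup V] [Module ℂ V] (ρ : Representation ℂ ↥(chevG2.group F) V)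

/-- `v` is an eigenvector of the root group `r` with character `χ`. -/
abbrev Ev (v : V) (r : ℕ) (χ : AddChar F ℂ) : Prop := Eg checkedG2 ρ v r χ

theorem ev_def {v : V} {r : ℕ} {χ : AddChar F ℂ} :
    Ev ρ v r χ ↔ ∀ t, ρ (x r t) v = χ t • v := Iff.rfl

variable {ρ}

theorem Ev.eq_smul {v : V} {r : ℕ} {χ : AddChar F ℂ} (h : Ev ρ v r χ) (t : F) :
    ρ (x r t) v = χ t • v := h t

theorem Ev.fixed {v : V} {r : ℕ} (h : Ev ρ v r 1) (t : F) : ρ (x r t) v = v := Eg.fixed h t

/-- The root element of `a` moves the eigenvalue of `b` by the eigenvalues of their commutator. -/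
theorem act {a b : ℕ} {l : List (ℕ × ℤ × ℕ × ℕ)} (h : pairOK a b l = true) {v : V}
    {χ : AddChar F ℂ} (hb : Ev ρ v b χ) (f : ℕ → AddChar F ℂ) (hl : ∀ e ∈ l, Ev ρ v e.1 (f e.1))
    (t u : F) :
    ρ (x b u) (ρ (x a t) v) = (χ u *
      (l.map fun e => f e.1 ((e.2.1 : F) * (-t) ^ e.2.2.1 * u ^ e.2.2.2)).prod) •
        ρ (x a t) v := by
  rw [← Module.End.mul_apply, ← map_mul, x_swap h]
  have key : ∀ m : List (ℕ × ℤ × ℕ × ℕ), (∀ e ∈ m, Ev ρ v e.1 (f e.1)) →
      ρ (m.map fun e => x e.1 ((e.2.1 : F) * (-t) ^ e.2.2.1 * u ^ e.2.2.2)).prod v =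
        (m.map fun e => f e.1 ((e.2.1 : F) * (-t) ^ e.2.2.1 * u ^ e.2.2.2)).prod • v := by
    intro m
    induction m with
    | nil => simp
    | cons e m ih =>
      intro hm
      rw [List.map_cons, List.prod_cons, map_mul, Module.End.mul_apply,
        ih fun e' he' => hm e' (List.mem_cons_of_mem _ he'), map_smul,
        (hm e List.mem_cons_self).eq_smul, smul_smul, List.map_cons, List.prod_cons, mul_comm]
  rw [map_mul, map_mul, Module.End.mul_apply, Module.End.mul_apply, key l hl, map_smul,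
    hb.eq_smul, smul_smul, map_smul, mul_comm]

/-- Eigenvalues are kept when the commutator acts trivially. -/
theorem Ev.keep {a b : ℕ} {l : List (ℕ × ℤ × ℕ × ℕ)} (h : pairOK a b l = true) {v : V}
    {χ : AddChar F ℂ} (hb : Ev ρ v b χ) (hl : ∀ e ∈ l, Ev ρ v e.1 1) (t : F) :
    Ev ρ (ρ (x a t) v) b χ := by
  intro u
  refine (act h hb (fun _ => 1) hl t u).trans ?_
  simp

theorem Ev.keep0 {a b : ℕ} (h : pairOK a b [] = true) {v : V}
    {χ : AddChar F ℂ} (hb : Ev ρ v b χ) (t : F) : Ev ρ (ρ (x a t) v) b χ :=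
  hb.keep h (by simp) t

theorem Ev.keep1 {a b k : ℕ} {c : ℤ} {i j : ℕ} (h : pairOK a b [(k, c, i, j)] = true) {v : V}
    {χ : AddChar F ℂ} (hb : Ev ρ v b χ) (hk : Ev ρ v k 1) (t : F) : Ev ρ (ρ (x a t) v) b χ :=
  hb.keep h (by simpa using hk) t

theorem Ev.keepSelf {a : ℕ} {v : V} {χ : AddChar F ℂ} (hb : Ev ρ v a χ) (t : F) :
    Ev ρ (ρ (x a t) v) a χ := fun u => by
  show ρ (x a u) (ρ (x a t) v) = χ u • ρ (x a t) v
  rw [← Module.End.mul_apply, ← map_mul, ← x_add, add_comm, x_add, map_mul, Module.End.mul_apply,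
    hb.eq_smul, map_smul]

/-- A single commutator term twists the eigenvalue. -/
theorem Ev.shift {a b k : ℕ} {c : ℤ} (h : pairOK a b [(k, c, 1, 1)] = true) {v : V}
    {χ δ : AddChar F ℂ} (hb : Ev ρ v b χ) (hk : Ev ρ v k δ) (t : F) :
    Ev ρ (ρ (x a t) v) b (χ * chScale δ ((c : F) * -t)) := by
  intro u
  refine (act h hb (fun _ => δ) (by simpa using hk) t u).trans ?_
  simp [AddChar.mul_apply, chScale_apply]

section Joint

variable (ρ)

/-- Joint eigenvectors. -/
def J (l : List (ℕ × AddChar F ℂ)) : Submodule ℂ V where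
  carrier := {v | ∀ p ∈ l, Ev ρ v p.1 p.2}
  add_mem' {a b} ha hb p hp t := by
    show ρ _ (a + b) = _
    rw [map_add, ha p hp t, hb p hp t, smul_add]
  zero_mem' p _ t := by
    show ρ _ (0 : V) = _
    rw [map_zero, smul_zero]
  smul_mem' c a ha p hp := Eg.smul (ha p hp) c

variable {ρ}

theorem mem_J {l : List (ℕ × AddChar F ℂ)} {v : V} :
    v ∈ J ρ l ↔ ∀ p ∈ l, Ev ρ v p.1 p.2 := Iff.rfl

theorem mem_J_cons {p : ℕ × AddChar F ℂ} {l : List (ℕ × AddChar F ℂ)} {v : V} :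
    v ∈ J ρ (p :: l) ↔ Ev ρ v p.1 p.2 ∧ v ∈ J ρ l := by
  simp [mem_J]

theorem mem_J_nil {v : V} : v ∈ J ρ [] := by simp [mem_J]

theorem J_nil : J ρ ([] : List (ℕ × AddChar F ℂ)) = ⊤ :=
  eq_top_iff.2 fun _ _ => mem_J_nil

theorem J_mono {l l' : List (ℕ × AddChar F ℂ)} (h : ∀ p ∈ l', p ∈ l) : J ρ l ≤ J ρ l' :=
  fun _ hv p hp => hv p (h p hp)

variable [FiniteDimensional ℂ V]

theorem J_le_of {g : ↥(chevG2.group F)} {l l' : List (ℕ × AddChar F ℂ)}
    (h : ∀ v ∈ J ρ l, ρ g v ∈ J ρ l') :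
    Module.finrank ℂ (J ρ l) ≤ Module.finrank ℂ (J ρ l') := by
  rw [LinearEquiv.finrank_eq (Submodule.equivMapOfInjective (ρ g) (rho_injective g) (J ρ l))]
  refine Submodule.finrank_mono ?_
  rintro _ ⟨v, hv, rfl⟩
  exact h v hv

variable [Fintype F]

/-- An invariant subspace is cut into eigenspaces by a root group. -/
theorem split_sum (r : ℕ) (W : Submodule ℂ V) (hW : ∀ t, ∀ v ∈ W, ρ (x r t) v ∈ W) :
    Module.finrank ℂ W =
      ∑ χ : AddChar F ℂ, Module.finrank ℂ ↥(W ⊓ J ρ [(r, χ)]) := by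
  let σ : Representation ℂ (Multiplicative F) W :=
    { toFun := fun a => (ρ (x r a.toAdd)).restrict (hW a.toAdd)
      map_one' := LinearMap.ext fun v => Subtype.ext (by
        show ρ (x r (0 : F)) v.1 = v.1
        rw [x_zero, map_one, Module.End.one_apply])
      map_mul' := fun a b => LinearMap.ext fun v => Subtype.ext (by
        show ρ (x r (a.toAdd + b.toAdd)) v.1 = ρ (x r a.toAdd) (ρ (x r b.toAdd) v.1)
        rw [x_add, map_mul, Module.End.mul_apply]) }
  rw [← sum_mult (ρ := σ) (u := Multiplicative.ofAdd) (fun a b => rfl)]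
  refine Finset.sum_congr rfl fun χ _ => ?_
  rw [mult, ← LinearEquiv.finrank_eq (Submodule.comapSubtypeEquivOfLe
    (inf_le_left : W ⊓ J ρ [(r, χ)] ≤ W))]
  suffices e : eig σ Multiplicative.ofAdd χ = (W ⊓ J ρ [(r, χ)]).comap W.subtype by rw [e]
  ext v
  rw [mem_eig, Submodule.mem_comap, Submodule.mem_inf, mem_J]
  constructor
  · intro h
    refine ⟨v.2, fun p hp => ?_⟩
    obtain rfl := List.mem_singleton.1 hp
    intro t
    exact congrArg Subtype.val (h t)
  · intro h t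
    exact Subtype.ext (h.2 (r, χ) (List.mem_singleton.2 rfl) t)

theorem J_split (r : ℕ) (l : List (ℕ × AddChar F ℂ))
    (hW : ∀ t, ∀ v ∈ J ρ l, ρ (x r t) v ∈ J ρ l) :
    Module.finrank ℂ (J ρ l) =
      ∑ χ : AddChar F ℂ, Module.finrank ℂ (J ρ ((r, χ) :: l)) := by
  rw [split_sum r _ hW]
  refine Finset.sum_congr rfl fun χ _ => ?_
  suffices e : J ρ l ⊓ J ρ [(r, χ)] = J ρ ((r, χ) :: l) by rw [e]
  ext v
  simp [mem_J_cons, mem_J_nil, and_comm]

end Joint

section Weyl

/-- The element of a fundamental reflection. -/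
noncomputable def nw (i : ℕ) : ↥(chevG2.group F) := ne checkedG2 i

/-- The sign met when reflecting. -/
def sg (i r : ℕ) : ℤ := tablesG2.eps i r

theorem sg_sq (i r : ℕ) : (sg i r : F) * (sg i r : F) = 1 :=
  Checked.eps_cast_mul_self (F := F) (T := tablesG2) i r

theorem sg_ne_zero (i r : ℕ) : (sg i r : F) ≠ 0 := left_ne_zero_of_mul_eq_one (sg_sq i r)

theorem Ev.refl {i r : ℕ} (r' : ℕ)
    (h' : decide (i < 2) && decide (r < 12) && (chevG2.reflectRoot i r == r') = true)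
    {v : V} {χ : AddChar F ℂ} (h : Ev ρ v r χ) :
    Ev ρ (ρ (nw i) v) r' (chScale χ (sg i r : F)) := by
  simp only [Bool.and_eq_true, decide_eq_true_eq, beq_iff_eq] at h'
  obtain ⟨⟨hi, hr⟩, e⟩ := h'
  subst e
  exact Eg.reflect (hC := checkedG2) hi (by
    have : chevG2.nroots = 12 := by decide
    omega) h

theorem Ev.refl1 {i r : ℕ} (r' : ℕ)
    (h' : decide (i < 2) && decide (r < 12) && (chevG2.reflectRoot i r == r') = true)
    {v : V} (h : Ev ρ v r 1) : Ev ρ (ρ (nw i) v) r' 1 := by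
  simpa [chScale_one] using h.refl r' h'

/-- The torus element with parameters `A`, `B`. -/
noncomputable def tor (A B : Fˣ) : ↥(chevG2.group F) :=
  te checkedG2 fun i => if i.val = 0 then A⁻¹ else B⁻¹

/-- The weight of a root at a torus element. -/
def wt (A B : Fˣ) (r : ℕ) : Fˣ := A ^ chevG2.cartan 0 r * B ^ chevG2.cartan 1 r

theorem Ev.torus (A B : Fˣ) {r : ℕ} (hr : decide (r < 12) = true) {v : V} {χ : AddChar F ℂ}
    (h : Ev ρ v r χ) : Ev ρ (ρ (tor A B) v) r (chScale χ (wt A B r : F)) := by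
  have := Eg.torus (hC := checkedG2) (fun i => if i.val = 0 then A⁻¹ else B⁻¹) (r := r) (by
    have : chevG2.nroots = 12 := by decide
    simp only [decide_eq_true_eq] at hr
    omega) h
  have e : (∏ l : Fin chevG2.rank,
      (fun i : Fin chevG2.rank => if i.val = 0 then A⁻¹ else B⁻¹)⁻¹ l ^ chevG2.cartan l.val r) =
      wt A B r := by
    show ∏ l : Fin 2, _ = _
    rw [Fin.prod_univ_two]
    show (A⁻¹)⁻¹ ^ chevG2.cartan 0 r * (B⁻¹)⁻¹ ^ chevG2.cartan 1 r = wt A B r
    rw [inv_inv, inv_inv, wt]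
  rwa [e] at this

theorem Ev.torus1 (A B : Fˣ) {r : ℕ} (hr : decide (r < 12) = true) {v : V}
    (h : Ev ρ v r 1) : Ev ρ (ρ (tor A B) v) r 1 := by
  simpa [chScale_one] using h.torus A B hr

end Weyl

end H34.GTwoDeg
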