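import Cfsg.Agent.H34.GTwoDeg.Base

/-!
Multiplicities of the characters of the abelian group of the roots `2a+b`, `3a+b`, `3a+2b` when
the characteristic is not three.
-/

set_option autoImplicit false
set_option linter.unusedSectionVars false
set_option linter.style.haveILetI false

namespace H34.GTwoDeg

open Cfsg.Lie H52
open H17.HeisDeg H17.HeisDeg.RootAct

theorem p8_9 : pairOK 8 9 [(11, 3, 1, 1)] = true := by decide +kernel
theorem p8_10 : pairOK 8 10 [] = true := by decide +kernel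
theorem p8_11 : pairOK 8 11 [] = true := by decide +kernel
theorem p6_9 : pairOK 6 9 [] = true := by decide +kernel
theorem p6_10 : pairOK 6 10 [(11, 1, 1, 1)] = true := by decide +kernel
theorem p6_11 : pairOK 6 11 [] = true := by decide +kernel
theorem p6_8 : pairOK 6 8 [] = true := by decide +kernel
theorem p7_9 : pairOK 7 9 [(10, 3, 1, 1)] = true := by decide +kernel
theorem p7_10 : pairOK 7 10 [] = true := by decide +kernel
theorem p7_11 : pairOK 7 11 [] = true := by decide +kernel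
theorem p9_10 : pairOK 9 10 [] = true := by decide +kernel
theorem p9_11 : pairOK 9 11 [] = true := by decide +kernel
theorem p10_11 : pairOK 10 11 [] = true := by decide +kernel
theorem p11_10 : pairOK 11 10 [] = true := by decide +kernel

section Weights

variable {F : Type*} [Field F]

theorem wt_eq (A B : Fˣ) (r : ℕ) {a b : ℤ}
    (h : (chevG2.cartan 0 r == a && chevG2.cartan 1 r == b) = true) :
    (wt A B r : F) = (A : F) ^ a * (B : F) ^ b := by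
  simp only [Bool.and_eq_true, beq_iff_eq] at h
  rw [wt, h.1, h.2, Units.val_mul, Units.val_zpow_eq_zpow_val, Units.val_zpow_eq_zpow_val]

theorem wt6 (A B : Fˣ) : (wt A B 6 : F) = (A : F) ^ (-3 : ℤ) * (B : F) ^ (2 : ℤ) :=
  wt_eq A B 6 (by decide +kernel)
theorem wt8 (A B : Fˣ) : (wt A B 8 : F) = (A : F) ^ (-1 : ℤ) * (B : F) ^ (1 : ℤ) :=
  wt_eq A B 8 (by decide +kernel)
theorem wt9 (A B : Fˣ) : (wt A B 9 : F) = (A : F) ^ (1 : ℤ) * (B : F) ^ (0 : ℤ) :=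
  wt_eq A B 9 (by decide +kernel)
theorem wt10 (A B : Fˣ) : (wt A B 10 : F) = (A : F) ^ (3 : ℤ) * (B : F) ^ (-1 : ℤ) :=
  wt_eq A B 10 (by decide +kernel)
theorem wt11 (A B : Fˣ) : (wt A B 11 : F) = (A : F) ^ (0 : ℤ) * (B : F) ^ (1 : ℤ) :=
  wt_eq A B 11 (by decide +kernel)
theorem wt7 (A B : Fˣ) : (wt A B 7 : F) = (A : F) ^ (2 : ℤ) * (B : F) ^ (-1 : ℤ) :=
  wt_eq A B 7 (by decide +kernel)
theorem wt4 (A B : Fˣ) : (wt A B 4 : F) = (A : F) ^ (-2 : ℤ) * (B : F) ^ (1 : ℤ) :=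
  wt_eq A B 4 (by decide +kernel)

end Weights

variable {F : Type*} [Field F] [Fintype F] {V : Type*} [AddCommGroup V] [Module ℂ V]
  [FiniteDimensional ℂ V] (ρ : Representation ℂ ↥(chevG2.group F) V)

/-- The multiplicity of a character of the roots `2a+b`, `3a+b`, `3a+2b`. -/
noncomputable def m3 (γ δ ψ : AddChar F ℂ) : ℕ :=
  Module.finrank ℂ (J ρ [(9, γ), (10, δ), (11, ψ)])

variable {ρ}

theorem shift9_top (h3 : (3 : F) ≠ 0) {ψ : AddChar F ℂ} (hψ : ψ ≠ 1) (γ γ' δ : AddChar F ℂ) :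
    m3 ρ γ δ ψ ≤ m3 ρ γ' δ ψ := by
  obtain ⟨μ, hμ⟩ := exists_chScale hψ (γ⁻¹ * γ')
  refine J_le_of (g := x 8 (-(μ / 3))) fun v hv => ?_
  simp only [mem_J_cons] at hv ⊢
  obtain ⟨h9, h10, h11, -⟩ := hv
  refine ⟨?_, h10.keep0 p8_10 _, h11.keep0 p8_11 _, mem_J_nil⟩
  have h := h9.shift p8_9 h11 (-(μ / 3))
  rwa [neg_neg, show (((3 : ℤ) : F)) * (μ / 3) = μ from by push_cast; field_simp, hμ,
    mul_inv_cancel_left] at h

theorem shift10_top {ψ : AddChar F ℂ} (hψ : ψ ≠ 1) (γ δ δ' : AddChar F ℂ) :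
    m3 ρ γ δ ψ ≤ m3 ρ γ δ' ψ := by
  obtain ⟨μ, hμ⟩ := exists_chScale hψ (δ⁻¹ * δ')
  refine J_le_of (g := x 6 (-μ)) fun v hv => ?_
  simp only [mem_J_cons] at hv ⊢
  obtain ⟨h9, h10, h11, -⟩ := hv
  refine ⟨h9.keep0 p6_9 _, ?_, h11.keep0 p6_11 _, mem_J_nil⟩
  have h := h10.shift p6_10 h11 (-μ)
  rwa [neg_neg, show (((1 : ℤ) : F)) * μ = μ from by push_cast; ring, hμ,
    mul_inv_cancel_left] at h

theorem shift9_mid (h3 : (3 : F) ≠ 0) {δ : AddChar F ℂ} (hδ : δ ≠ 1) (γ γ' ψ : AddChar F ℂ) :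
    m3 ρ γ δ ψ ≤ m3 ρ γ' δ ψ := by
  obtain ⟨μ, hμ⟩ := exists_chScale hδ (γ⁻¹ * γ')
  refine J_le_of (g := x 7 (-(μ / 3))) fun v hv => ?_
  simp only [mem_J_cons] at hv ⊢
  obtain ⟨h9, h10, h11, -⟩ := hv
  refine ⟨?_, h10.keep0 p7_10 _, h11.keep0 p7_11 _, mem_J_nil⟩
  have h := h9.shift p7_9 h10 (-(μ / 3))
  rwa [neg_neg, show (((3 : ℤ) : F)) * (μ / 3) = μ from by push_cast; field_simp, hμ,
    mul_inv_cancel_left] at h

theorem scale_top {ψ ψ' : AddChar F ℂ} (hψ : ψ ≠ 1) (hψ' : ψ' ≠ 1) :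
    m3 ρ 1 1 ψ ≤ m3 ρ 1 1 ψ' := by
  obtain ⟨μ, hμ⟩ := exists_chScale hψ ψ'
  have hμ0 : μ ≠ 0 := fun h => hψ' (by rw [← hμ, h, chScale_nil])
  refine J_le_of (g := tor 1 (Units.mk0 μ hμ0)) fun v hv => ?_
  simp only [mem_J_cons] at hv ⊢
  obtain ⟨h9, h10, h11, -⟩ := hv
  refine ⟨h9.torus1 _ _ (by decide), h10.torus1 _ _ (by decide), ?_, mem_J_nil⟩
  have h := h11.torus 1 (Units.mk0 μ hμ0) (by decide)
  rwa [wt11, Units.val_one, one_zpow, one_mul, zpow_one, Units.val_mk0, hμ] at h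

theorem scale_mid {δ δ' : AddChar F ℂ} (hδ : δ ≠ 1) (hδ' : δ' ≠ 1) :
    m3 ρ 1 δ 1 ≤ m3 ρ 1 δ' 1 := by
  obtain ⟨μ, hμ⟩ := exists_chScale hδ δ'
  have hμ0 : μ ≠ 0 := fun h => hδ' (by rw [← hμ, h, chScale_nil])
  refine J_le_of (g := tor 1 (Units.mk0 μ hμ0)⁻¹) fun v hv => ?_
  simp only [mem_J_cons] at hv ⊢
  obtain ⟨h9, h10, h11, -⟩ := hv
  refine ⟨h9.torus1 _ _ (by decide), ?_, h11.torus1 _ _ (by decide), mem_J_nil⟩
  have h := h10.torus 1 (Units.mk0 μ hμ0)⁻¹ (by decide)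
  rwa [wt10, Units.val_one, one_zpow, one_mul, zpow_neg_one, ← Units.val_inv_eq_inv_val, inv_inv,
    Units.val_mk0, hμ] at h

theorem split_top_ten (ψ : AddChar F ℂ) :
    Module.finrank ℂ (J ρ [(11, ψ)]) = ∑ δ : AddChar F ℂ, ∑ γ : AddChar F ℂ, m3 ρ γ δ ψ := by
  rw [J_split 10 _ fun t v hv => by
    simp only [mem_J_cons] at hv ⊢
    exact ⟨hv.1.keep0 p10_11 t, mem_J_nil⟩]
  refine Finset.sum_congr rfl fun δ _ => ?_
  exact J_split 9 _ fun t v hv => by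
    simp only [mem_J_cons] at hv ⊢
    exact ⟨hv.1.keep0 p9_10 t, hv.2.1.keep0 p9_11 t, mem_J_nil⟩

theorem split_ten (δ : AddChar F ℂ) :
    Module.finrank ℂ (J ρ [(10, δ)]) = ∑ ψ : AddChar F ℂ, ∑ γ : AddChar F ℂ, m3 ρ γ δ ψ := by
  rw [J_split 11 _ fun t v hv => by
    simp only [mem_J_cons] at hv ⊢
    exact ⟨hv.1.keep0 p11_10 t, mem_J_nil⟩]
  refine Finset.sum_congr rfl fun ψ _ => ?_
  have e : J ρ [(11, ψ), (10, δ)] = J ρ [(10, δ), (11, ψ)] := by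
    ext v
    simp only [mem_J_cons]
    tauto
  rw [e]
  exact J_split 9 _ fun t v hv => by
    simp only [mem_J_cons] at hv ⊢
    exact ⟨hv.1.keep0 p9_10 t, hv.2.1.keep0 p9_11 t, mem_J_nil⟩

theorem swap_top (ψ : AddChar F ℂ) :
    Module.finrank ℂ (J ρ [(11, ψ)]) ≤
      Module.finrank ℂ (J ρ [(10, chScale ψ (sg 1 11 : F))]) :=
  J_le_of (g := nw 1) fun v hv => by
    simp only [mem_J_cons] at hv ⊢
    exact ⟨hv.1.refl 10 (by decide +kernel), mem_J_nil⟩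

theorem swap_ten (δ : AddChar F ℂ) :
    Module.finrank ℂ (J ρ [(10, δ)]) ≤
      Module.finrank ℂ (J ρ [(11, chScale δ (sg 1 10 : F))]) :=
  J_le_of (g := nw 1) fun v hv => by
    simp only [mem_J_cons] at hv ⊢
    exact ⟨hv.1.refl 11 (by decide +kernel), mem_J_nil⟩

theorem finrank_eq_sum :
    Module.finrank ℂ V = ∑ ψ : AddChar F ℂ, Module.finrank ℂ (J ρ [(11, ψ)]) := by
  rw [← finrank_top ℂ V, ← J_nil (ρ := ρ)]
  exact J_split 11 _ fun _ _ _ => mem_J_nil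

open Classical in
/-- The multiplicities are constant off the common fixed space of the two long roots. -/
theorem shape (h3 : (3 : F) ≠ 0) :
    ∃ a : ℕ, (∀ γ δ ψ : AddChar F ℂ, ψ ≠ 1 → m3 ρ γ δ ψ = a) ∧
      (∀ γ δ : AddChar F ℂ, δ ≠ 1 → m3 ρ γ δ 1 = a) ∧
      Module.finrank ℂ V = (Fintype.card F - 1) * (Fintype.card F ^ 2 + Fintype.card F) * a +
        Module.finrank ℂ (J ρ [(10, (1 : AddChar F ℂ)), (11, (1 : AddChar F ℂ))]) := by
  obtain ⟨ψ₀, hψ₀⟩ := exists_ne_one (F := F)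
  set a := m3 ρ 1 1 ψ₀
  set b := m3 ρ 1 ψ₀ 1
  set q := Fintype.card F with hq
  have hq1 : 1 ≤ q := Fintype.card_pos
  have hA : ∀ γ δ ψ : AddChar F ℂ, ψ ≠ 1 → m3 ρ γ δ ψ = a := by
    intro γ δ ψ hψ
    refine le_antisymm ?_ ?_
    · exact ((shift9_top h3 hψ γ 1 δ).trans (shift10_top hψ 1 δ 1)).trans (scale_top hψ hψ₀)
    · exact ((scale_top hψ₀ hψ).trans (shift10_top hψ 1 1 δ)).trans (shift9_top h3 hψ 1 γ δ)
  have hB : ∀ γ δ : AddChar F ℂ, δ ≠ 1 → m3 ρ γ δ 1 = b := by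
    intro γ δ hδ
    exact le_antisymm ((shift9_mid h3 hδ γ 1 1).trans (scale_mid hδ hψ₀))
      ((scale_mid hψ₀ hδ).trans (shift9_mid h3 hδ 1 γ 1))
  have hc : ∀ c : ℕ, ∑ _γ : AddChar F ℂ, c = q * c := fun c => by
    rw [Finset.sum_const, Finset.card_univ, card_chars, smul_eq_mul, hq]
  have hS : ∀ ψ : AddChar F ℂ, ψ ≠ 1 → Module.finrank ℂ (J ρ [(11, ψ)]) = q * (q * a) := by
    intro ψ hψ
    rw [split_top_ten]
    simp only [hA _ _ ψ hψ, hc]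
  have hne : ∀ f : AddChar F ℂ → ℕ, ∀ c : ℕ, (∀ χ, χ ≠ 1 → f χ = c) →
      ∑ χ : AddChar F ℂ, f χ = f 1 + (q - 1) * c := by
    intro f c hf
    rw [← Finset.add_sum_erase _ _ (Finset.mem_univ (1 : AddChar F ℂ))]
    congr 1
    rw [Finset.sum_congr rfl fun χ hχ => hf χ (Finset.ne_of_mem_erase hχ), Finset.sum_const,
      card_ne_one_chars, smul_eq_mul]
  have hT : ∀ δ : AddChar F ℂ, δ ≠ 1 →
      Module.finrank ℂ (J ρ [(10, δ)]) = q * b + (q - 1) * (q * a) := by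
    intro δ hδ
    rw [split_ten, hne _ (q * a) fun ψ hψ => by simp only [hA _ δ ψ hψ, hc]]
    simp only [hB _ δ hδ, hc]
  have hab : b = a := by
    have h1 := swap_top (ρ := ρ) ψ₀
    have h2 := swap_ten (ρ := ρ) ψ₀
    rw [hS _ hψ₀, hT _ (chScale_ne_one hψ₀ (sg_ne_zero 1 11))] at h1
    rw [hT _ hψ₀, hS _ (chScale_ne_one hψ₀ (sg_ne_zero 1 10))] at h2
    have he := le_antisymm h1 h2
    obtain ⟨p, hp⟩ : ∃ p, q = p + 1 := ⟨q - 1, by omega⟩
    rw [hp] at he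
    simp only [Nat.add_sub_cancel] at he
    refine Nat.eq_of_mul_eq_mul_left (show 0 < p + 1 by omega) ?_
    linarith
  refine ⟨a, hA, fun γ δ hδ => (hB γ δ hδ).trans hab, ?_⟩
  rw [finrank_eq_sum (ρ := ρ), hne _ _ hS, split_top_ten (1 : AddChar F ℂ),
    hne _ (q * a) fun δ hδ => by simp only [hB _ δ hδ, hab, hc]]
  rw [show ∑ γ : AddChar F ℂ, m3 ρ γ 1 1 =
    Module.finrank ℂ (J ρ [(10, (1 : AddChar F ℂ)), (11, (1 : AddChar F ℂ))]) from
    (J_split 9 _ fun t v hv => by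
      simp only [mem_J_cons] at hv ⊢
      exact ⟨hv.1.keep0 p9_10 t, hv.2.1.keep0 p9_11 t, mem_J_nil⟩).symm]
  ring

/-- The common multiplicity is positive. -/
theorem shape_pos {a : ℕ} (hz : J ρ [(11, (1 : AddChar F ℂ))] ≠ ⊤)
    (hA : ∀ γ δ ψ : AddChar F ℂ, ψ ≠ 1 → m3 ρ γ δ ψ = a) : 1 ≤ a := by
  classical
  by_contra h0
  refine hz (Submodule.eq_top_of_finrank_eq ?_)
  rw [finrank_eq_sum (ρ := ρ), ← Finset.add_sum_erase _ _ (Finset.mem_univ (1 : AddChar F ℂ))]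
  have : ∑ ψ ∈ Finset.univ.erase (1 : AddChar F ℂ), Module.finrank ℂ (J ρ [(11, ψ)]) = 0 :=
    Finset.sum_eq_zero fun ψ hψ => by
      rw [split_top_ten]
      refine Finset.sum_eq_zero fun δ _ => Finset.sum_eq_zero fun γ _ => ?_
      rw [hA γ δ ψ (Finset.ne_of_mem_erase hψ)]
      omega
  omega

omit [FiniteDimensional ℂ V] in
theorem exists_smul_of_line {W : Submodule ℂ V} (h : Module.finrank ℂ W = 1) {v : V} (hv : v ∈ W)
    (hv0 : v ≠ 0) {w : V} (hw : w ∈ W) : ∃ c : ℂ, c • v = w := by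
  obtain ⟨c, hc⟩ := (finrank_eq_one_iff_of_nonzero' (⟨v, hv⟩ : W)
    (fun e => hv0 (congrArg Subtype.val e))).1 h ⟨w, hw⟩
  exact ⟨c, congrArg Subtype.val hc⟩

/-- An operator permuting a line normalizing a root group forces an invariant eigenvalue. -/
theorem inv_of_line {W : Submodule ℂ V} (h : Module.finrank ℂ W = 1) {v : V} (hv : v ∈ W)
    (hv0 : v ≠ 0) {g : ↥(chevG2.group F)} (hg : ρ g v ∈ W) {r : ℕ} {χ χ' : AddChar F ℂ}
    (h1 : Ev ρ v r χ) (h2 : Ev ρ (ρ g v) r χ') : χ' = χ := by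
  obtain ⟨c, hc⟩ := exists_smul_of_line h hv hv0 hg
  exact Eg.eq h2 (hc ▸ Eg.smul h1 c) (ne_zero_map hv0 g)

omit [FiniteDimensional ℂ V] in
/-- A root group keeping a line acts on it by a character. -/
theorem char_of_line {W : Submodule ℂ V} (h : Module.finrank ℂ W = 1) {v : V} (hv : v ∈ W)
    (hv0 : v ≠ 0) {r : ℕ} (hg : ∀ t, ρ (x r t) v ∈ W) : ∃ χ : AddChar F ℂ, Ev ρ v r χ :=
  exists_char (ρ := ρ) (fun a b => x_add r a b) hv0 fun t => exists_smul_of_line h hv hv0 (hg t)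

theorem exists_pow_ne_one {n : ℕ} (hn : 0 < n) (h : n + 1 < Fintype.card F) :
    ∃ A : Fˣ, (A : F) ^ n ≠ 1 := by
  classical
  by_contra hne
  simp only [not_exists, not_not] at hne
  have hsub : (Finset.univ.erase (0 : F)) ⊆ (Polynomial.X ^ n - 1 : Polynomial F).roots.toFinset := by
    intro a ha
    have ha0 := Finset.ne_of_mem_erase ha
    rw [Multiset.mem_toFinset, Polynomial.mem_roots (by rw [← Polynomial.C_1]; exact (Polynomial.monic_X_pow_sub_C (1 : F) hn.ne').ne_zero)]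
    simpa [sub_eq_zero] using hne (Units.mk0 a ha0)
  have h1 := (Finset.card_le_card hsub).trans (Multiset.toFinset_card_le _)
  have h2 : (Polynomial.X ^ n - 1 : Polynomial F).roots.card ≤ n :=
    (Polynomial.card_roots' _).trans (by rw [← Polynomial.C_1, Polynomial.natDegree_X_pow_sub_C])
  rw [Finset.card_erase_of_mem (Finset.mem_univ _), Finset.card_univ] at h1
  omega

/-- With common multiplicity one there is a vector fixed by four roots. -/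
theorem single_vector (hq : 4 < Fintype.card F)
    (hB : ∀ γ δ : AddChar F ℂ, δ ≠ 1 → m3 ρ γ δ 1 = 1) {δ : AddChar F ℂ} (hδ : δ ≠ 1) :
    ∃ v : V, v ≠ 0 ∧ Ev ρ v 6 1 ∧ Ev ρ v 8 1 ∧ Ev ρ v 9 1 ∧ Ev ρ v 11 1 ∧ Ev ρ v 10 δ := by
  set W := J ρ [(9, (1 : AddChar F ℂ)), (10, δ), (11, 1)] with hW
  have hW1 : Module.finrank ℂ W = 1 := hB 1 δ hδ
  obtain ⟨v, hv, hv0⟩ := W.exists_mem_ne_zero_of_ne_bot (fun e => by
    rw [e, finrank_bot] at hW1; exact zero_ne_one hW1)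
  have hv' := hv
  rw [hW] at hv'
  simp only [mem_J_cons] at hv'
  obtain ⟨h9, h10, h11, -⟩ := hv'
  obtain ⟨β, hβ⟩ := char_of_line hW1 hv hv0 (r := 8) fun t => by
    rw [hW]
    simp only [mem_J_cons]
    exact ⟨h9.keep1 p8_9 h11 t, h10.keep0 p8_10 t, h11.keep0 p8_11 t, mem_J_nil⟩
  obtain ⟨α, hα⟩ := char_of_line hW1 hv hv0 (r := 6) fun t => by
    rw [hW]
    simp only [mem_J_cons]
    exact ⟨h9.keep0 p6_9 t, h10.keep1 p6_10 h11 t, h11.keep0 p6_11 t, mem_J_nil⟩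
  have hstab : ∀ A : Fˣ, ρ (tor A (A ^ 3)) v ∈ W := by
    intro A
    rw [hW]
    simp only [mem_J_cons]
    refine ⟨h9.torus1 _ _ (by decide), ?_, h11.torus1 _ _ (by decide), mem_J_nil⟩
    have h := h10.torus A (A ^ 3) (by decide)
    rwa [wt10, Units.val_pow_eq_pow_val, zpow_neg_one, show (3 : ℤ) = ((3 : ℕ) : ℤ) from rfl,
      zpow_natCast, mul_inv_cancel₀ (pow_ne_zero _ A.ne_zero), chScale_id] at h
  have hβ1 : β = 1 := by
    obtain ⟨A, hA⟩ := exists_pow_ne_one (F := F) (n := 2) two_pos (by omega)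
    refine eq_one_of_chScale_eq ?_ (inv_of_line hW1 hv hv0 (hstab A) hβ
      (Ev.torus A (A ^ 3) (by decide) hβ))
    rw [wt8, Units.val_pow_eq_pow_val, zpow_neg_one, zpow_one]
    intro e
    apply hA
    rw [← e]
    field_simp
  have hα1 : α = 1 := by
    obtain ⟨A, hA⟩ := exists_pow_ne_one (F := F) (n := 3) (by norm_num) (by omega)
    refine eq_one_of_chScale_eq ?_ (inv_of_line hW1 hv hv0 (hstab A) hα
      (Ev.torus A (A ^ 3) (by decide) hα))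
    rw [wt6, Units.val_pow_eq_pow_val, show (-3 : ℤ) = -((3 : ℕ) : ℤ) from rfl, zpow_neg,
      zpow_natCast, show (2 : ℤ) = ((2 : ℕ) : ℤ) from rfl, zpow_natCast, ← pow_mul]
    intro e
    apply hA
    rw [← e]
    field_simp
  subst hβ1 hα1
  exact ⟨v, hv0, hα, hβ, h9, h11, h10⟩

/-- The long root `b` has every nontrivial eigenvalue on vectors fixed by the top four roots. -/
theorem six_vectors {v : V} {δ : AddChar F ℂ} (hv0 : v ≠ 0) (hδ : δ ≠ 1) (h6 : Ev ρ v 6 1)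
    (h8 : Ev ρ v 8 1) (h9 : Ev ρ v 9 1) (h11 : Ev ρ v 11 1) (h10 : Ev ρ v 10 δ)
    {α : AddChar F ℂ} (hα : α ≠ 1) :
    ∃ y : V, y ≠ 0 ∧ Ev ρ y 6 α ∧ Ev ρ y 8 1 ∧ Ev ρ y 9 1 ∧ Ev ρ y 10 1 ∧ Ev ρ y 11 1 := by
  obtain ⟨μ, hμ⟩ := exists_chScale (chScale_ne_one hδ (sg_ne_zero (F := F) 0 10)) α
  have hμ0 : μ ≠ 0 := fun h => hα (by rw [← hμ, h, chScale_nil])
  refine ⟨ρ (tor (Units.mk0 μ hμ0) (Units.mk0 μ hμ0 ^ 2)) (ρ (nw 0) v),
    ne_zero_map (ne_zero_map hv0 _) _, ?_, (h9.refl1 8 (by decide +kernel)).torus1 _ _ (by decide),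
    (h8.refl1 9 (by decide +kernel)).torus1 _ _ (by decide),
    (h6.refl1 10 (by decide +kernel)).torus1 _ _ (by decide),
    (h11.refl1 11 (by decide +kernel)).torus1 _ _ (by decide)⟩
  have h := (h10.refl (i := 0) 6 (by decide +kernel)).torus (Units.mk0 μ hμ0)
    (Units.mk0 μ hμ0 ^ 2) (by decide)
  rwa [wt6, Units.val_pow_eq_pow_val, Units.val_mk0, show (-3 : ℤ) = -((3 : ℕ) : ℤ) from rfl,
    zpow_neg, zpow_natCast, show (2 : ℤ) = ((2 : ℕ) : ℤ) from rfl, zpow_natCast, ← pow_mul,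
    show (μ ^ 3)⁻¹ * μ ^ (2 * 2) = μ from by field_simp, hμ] at h

/-- The fixed space of the two long roots contains all nontrivial eigenvalues of the root `b`. -/
theorem card_le_fixed {v : V} {δ : AddChar F ℂ} (hv0 : v ≠ 0) (hδ : δ ≠ 1) (h6 : Ev ρ v 6 1)
    (h8 : Ev ρ v 8 1) (h9 : Ev ρ v 9 1) (h11 : Ev ρ v 11 1) (h10 : Ev ρ v 10 δ) :
    Fintype.card F - 1 ≤
      Module.finrank ℂ (J ρ [(10, (1 : AddChar F ℂ)), (11, (1 : AddChar F ℂ))]) := by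
  classical
  rw [J_split 6 _ fun t w hw => by
    simp only [mem_J_cons] at hw ⊢
    exact ⟨hw.1.keep1 p6_10 hw.2.1 t, hw.2.1.keep0 p6_11 t, mem_J_nil⟩]
  rw [← card_ne_one_chars (F := F), Finset.card_eq_sum_ones]
  refine (Finset.sum_le_sum fun α hα => ?_).trans
    (Finset.sum_le_sum_of_subset (Finset.subset_univ _))
  obtain ⟨y, hy0, y6, -, -, y10, y11⟩ :=
    six_vectors hv0 hδ h6 h8 h9 h11 h10 (Finset.ne_of_mem_erase hα)
  rw [Nat.one_le_iff_ne_zero, Ne, Submodule.finrank_eq_zero]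
  intro e
  have : y ∈ J ρ [(6, α), (10, (1 : AddChar F ℂ)), (11, 1)] := by
    simp only [mem_J_cons]
    exact ⟨y6, y10, y11, mem_J_nil⟩
  rw [e, Submodule.mem_bot] at this
  exact hy0 this

end H34.GTwoDeg
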