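import Cfsg.Agent.H34.GTwoDeg.Base

/-!
Vectors fixed by the root groups of the fundamental roots and their negatives, and facts about
the torus of `G₂`.
-/

set_option autoImplicit false
set_option linter.unusedSectionVars false
set_option linter.style.haveILetI false

namespace H34.GTwoDeg

open Cfsg.Lie H52
open H17.HeisDeg H17.HeisDeg.RootAct

variable {F : Type*} [Field F]

theorem nroots12 : chevG2.nroots = 12 := by decide

theorem nw_eq (i : ℕ) :
    (nw i : ↥(chevG2.group F)) =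
      x (chevG2.simple i) 1 * x (chevG2.neg (chevG2.simple i)) (-1) * x (chevG2.simple i) 1 := rfl

theorem simple_data : chevG2.simple 0 = 7 ∧ chevG2.simple 1 = 6 ∧ chevG2.neg 7 = 4 ∧
    chevG2.neg 6 = 5 := by decide +kernel

theorem nw0_eq : (nw 0 : ↥(chevG2.group F)) = x 7 1 * x 4 (-1) * x 7 1 := by
  rw [nw_eq, simple_data.1, simple_data.2.2.1]

theorem nw1_eq : (nw 1 : ↥(chevG2.group F)) = x 6 1 * x 5 (-1) * x 6 1 := by
  rw [nw_eq, simple_data.2.1, simple_data.2.2.2]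

theorem tor_comm (A B A' B' : Fˣ) :
    (tor A B : ↥(chevG2.group F)) * tor A' B' = tor A' B' * tor A B := by
  apply Subtype.ext
  simp only [tor, te, Subgroup.coe_mul]
  rw [← map_mul, mul_comm, map_mul]

/-- The element `n_r(t)` of the group. -/
noncomputable def nn (r : ℕ) (t : F) : ↥(chevG2.group F) :=
  x r t * x (chevG2.neg r) (-t⁻¹) * x r t

theorem coe_nn (r : ℕ) (t : F) :
    ((nn r t : ↥(chevG2.group F)) : GL chevG2.Idx F) = nElt chevG2 r t := by
  rw [Checked.nElt_eq]; rfl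

/-- A torus element as a product of two elements `n_r(t)`. -/
theorem tor_zero_eq (A : Fˣ) :
    (tor A 1 : ↥(chevG2.group F)) = nn 7 ((A⁻¹ : Fˣ) : F) * nn 7 (-1) := by
  apply Subtype.ext
  rw [Subgroup.coe_mul, coe_nn, coe_nn, ← Checked.hElt_eq, ← simple_data.1]
  show torus chevG2 _ = hElt chevG2 (chevG2.simple ((0 : Fin 2) : ℕ)) _
  rw [checkedG2.hElt_simple_eq_torus (0 : Fin 2) A⁻¹]
  congr 1
  funext i
  obtain ⟨iv, hi⟩ := i
  have h2 : iv < 2 := hi
  rcases iv with _ | _ | n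
  · show _ = Pi.mulSingle (M := fun _ : Fin chevG2.rank => Fˣ) ⟨0, hi⟩ A⁻¹ ⟨0, hi⟩
    rw [Pi.mulSingle_eq_same]
    rfl
  · show _ = Pi.mulSingle (M := fun _ : Fin chevG2.rank => Fˣ) ⟨0, Nat.zero_lt_of_lt hi⟩ A⁻¹ ⟨1, hi⟩
    rw [Pi.mulSingle_eq_of_ne (by simp [Fin.ext_iff])]
    exact inv_one
  · omega

theorem tor_one_eq (B : Fˣ) :
    (tor 1 B : ↥(chevG2.group F)) = nn 6 ((B⁻¹ : Fˣ) : F) * nn 6 (-1) := by
  apply Subtype.ext
  rw [Subgroup.coe_mul, coe_nn, coe_nn, ← Checked.hElt_eq, ← simple_data.2.1]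
  show torus chevG2 _ = hElt chevG2 (chevG2.simple ((1 : Fin 2) : ℕ)) _
  rw [checkedG2.hElt_simple_eq_torus (1 : Fin 2) B⁻¹]
  congr 1
  funext i
  obtain ⟨iv, hi⟩ := i
  have h2 : iv < 2 := hi
  rcases iv with _ | _ | n
  · show _ = Pi.mulSingle (M := fun _ : Fin chevG2.rank => Fˣ) ⟨1, by decide⟩ B⁻¹ ⟨0, hi⟩
    rw [Pi.mulSingle_eq_of_ne (by simp [Fin.ext_iff])]
    exact inv_one
  · show _ = Pi.mulSingle (M := fun _ : Fin chevG2.rank => Fˣ) ⟨1, hi⟩ B⁻¹ ⟨1, hi⟩
    rw [Pi.mulSingle_eq_same]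
    rfl
  · omega

theorem tor_mul (A B A' B' : Fˣ) :
    (tor (A * A') (B * B') : ↥(chevG2.group F)) = tor A B * tor A' B' := by
  apply Subtype.ext
  simp only [tor, te, Subgroup.coe_mul]
  rw [← map_mul]
  congr 1
  funext i
  rw [Pi.mul_apply]
  split_ifs <;> rw [mul_inv]

theorem nn_inv (t : F) (ht : t = 1) :
    (nn 6 t : ↥(chevG2.group F))⁻¹ = nn 6 (-1) := by
  subst ht
  apply Subtype.ext
  rw [Subgroup.coe_inv, coe_nn, coe_nn, checkedG2.nElt_inv (by decide +kernel)]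

variable {V : Type*} [AddCommGroup V] [Module ℂ V] {ρ : Representation ℂ ↥(chevG2.group F) V}

theorem fixed_mul {v : V} {g g' : ↥(chevG2.group F)} (h : ρ g v = v) (h' : ρ g' v = v) :
    ρ (g * g') v = v := by
  rw [map_mul, Module.End.mul_apply, h', h]

theorem fixed_nn {v : V} {r : ℕ} (h : Ev ρ v r 1) (h' : Ev ρ v (chevG2.neg r) 1) (t : F) :
    ρ (nn r t) v = v :=
  fixed_mul (fixed_mul (h.fixed t) (h'.fixed _)) (h.fixed t)

theorem fixed_nw0 {v : V} (h7 : Ev ρ v 7 1) (h4 : Ev ρ v 4 1) : ρ (nw 0) v = v := by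
  rw [nw0_eq]
  exact fixed_mul (fixed_mul (h7.fixed 1) (h4.fixed _)) (h7.fixed 1)

theorem fixed_nw1 {v : V} (h6 : Ev ρ v 6 1) (h5 : Ev ρ v 5 1) : ρ (nw 1) v = v := by
  rw [nw1_eq]
  exact fixed_mul (fixed_mul (h6.fixed 1) (h5.fixed _)) (h6.fixed 1)

/-- Fixed vectors of the four fundamental root groups are fixed by the group. -/
theorem fixed_all {v : V} (h7 : Ev ρ v 7 1) (h4 : Ev ρ v 4 1) (h6 : Ev ρ v 6 1) (h5 : Ev ρ v 5 1)
    (g : ↥(chevG2.group F)) : ρ g v = v := by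
  have n0 := fixed_nw0 h7 h4
  have n1 := fixed_nw1 h6 h5
  have r0 : ∀ {r : ℕ} (r' : ℕ), Ev ρ v r 1 →
      (decide (0 < 2) && decide (r < 12) && (chevG2.reflectRoot 0 r == r') = true) → Ev ρ v r' 1 :=
    fun {r} r' h h' => by have := h.refl1 r' h'; rwa [n0] at this
  have r1 : ∀ {r : ℕ} (r' : ℕ), Ev ρ v r 1 →
      (decide (1 < 2) && decide (r < 12) && (chevG2.reflectRoot 1 r == r') = true) → Ev ρ v r' 1 :=
    fun {r} r' h h' => by have := h.refl1 r' h'; rwa [n1] at this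
  have h8 := r1 8 h7 (by decide +kernel)
  have h9 := r0 9 h8 (by decide +kernel)
  have h10 := r0 10 h6 (by decide +kernel)
  have h11 := r1 11 h10 (by decide +kernel)
  have h3 := r1 3 h4 (by decide +kernel)
  have h2 := r0 2 h3 (by decide +kernel)
  have h1 := r0 1 h5 (by decide +kernel)
  have h0 := r1 0 h1 (by decide +kernel)
  have hall : ∀ r, r < 12 → Ev ρ v r 1 := by
    intro r hr
    interval_cases r <;> assumption
  obtain ⟨g, hg⟩ := g
  refine Subgroup.closure_induction (p := fun g hg => ρ ⟨g, hg⟩ v = v) ?_ ?_ ?_ ?_ hg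
  · rintro g ⟨r, t, hrt⟩
    have e : g = rt chevG2 r.val t := Units.ext (by
      rw [checkedG2.coe_rt, ChevalleyDatum.x, dif_pos r.isLt]
      exact hrt)
    subst e
    exact (hall r.val (lt_of_lt_of_le r.isLt (le_of_eq nroots12))).fixed t
  · show ρ 1 v = v
    rw [map_one, Module.End.one_apply]
  · exact fun a b ha hb h h' => fixed_mul (g := (⟨a, ha⟩ : ↥(chevG2.group F))) (g' := ⟨b, hb⟩) h h'
  · intro a ha h
    show ρ ((⟨a, ha⟩ : ↥(chevG2.group F))⁻¹) v = v
    have h2 : ρ (⟨a, ha⟩ : ↥(chevG2.group F))⁻¹ (ρ ⟨a, ha⟩ v) = v := by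
      rw [← Module.End.mul_apply, ← map_mul, inv_mul_cancel, map_one, Module.End.one_apply]
    rwa [h] at h2

/-- An irreducible representation of degree at least two has no fixed vector. -/
theorem no_fixed {k : ℕ} {ρ : Representation ℂ ↥(chevG2.group F) (Fin k → ℂ)}
    (hρ : ρ.IsIrreducible) (hk : 2 ≤ k) {v : Fin k → ℂ} (hv : v ≠ 0) (h7 : Ev ρ v 7 1)
    (h4 : Ev ρ v 4 1) (h6 : Ev ρ v 6 1) (h5 : Ev ρ v 5 1) : False := by
  let S : Subrepresentation ρ :=
    { toSubmodule := Submodule.span ℂ {v}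
      apply_mem_toSubmodule := fun g w hw => by
        obtain ⟨c, rfl⟩ := Submodule.mem_span_singleton.1 hw
        rw [map_smul, fixed_all h7 h4 h6 h5 g]
        exact hw }
  haveI := hρ
  rcases IsSimpleOrder.eq_bot_or_eq_top S with h' | h'
  · have e' : S.toSubmodule = ⊥ := by rw [h']; rfl
    exact hv (by simpa [S] using e')
  · have e' : S.toSubmodule = ⊤ := by rw [h']; rfl
    have hfr := congrArg (fun U : Submodule ℂ (Fin k → ℂ) => Module.finrank ℂ U) e'
    simp only [S, finrank_top, Module.finrank_fin_fun] at hfr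
    rw [finrank_span_singleton hv] at hfr
    omega

end H34.GTwoDeg
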