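import Cfsg.Agent.H17.Blichfeldt

/-!
The invariant inner product of a representation of a finite group, and a lower bound for the
dimension of a span by the squares of the entries of a Gram matrix.
-/

set_option autoImplicit false
set_option linter.unusedSectionVars false

namespace H34.GTwoDeg

open scoped ComplexConjugate InnerProductSpace
open Finset Module

/-- The square of the trace of a Gram matrix is at most the rank times its square norm. -/
theorem gram_bound {E : Type*} [NormedAddCommGroup E] [InnerProductSpace ℂ E]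
    [FiniteDimensional ℂ E] {ι : Type*} [Fintype ι] (v : ι → E) :
    (∑ i, ‖v i‖ ^ 2) ^ 2 ≤ (finrank ℂ E : ℝ) * ∑ i, ∑ j, ‖⟪v i, v j⟫_ℂ‖ ^ 2 := by
  set b := stdOrthonormalBasis ℂ E
  let a : Fin (finrank ℂ E) → ℝ := fun m => ∑ i, ‖⟪b m, v i⟫_ℂ‖ ^ 2
  let S : Fin (finrank ℂ E) → E := fun m => ∑ i, ⟪v i, b m⟫_ℂ • v i
  have htr : ∑ i, ‖v i‖ ^ 2 = ∑ m, a m := by
    simp only [a]
    rw [Finset.sum_comm]
    exact Finset.sum_congr rfl fun i _ => (b.sum_sq_norm_inner_right (v i)).symm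
  have hS : ∀ m, a m ≤ ‖S m‖ := by
    intro m
    have h1 : ⟪b m, S m⟫_ℂ = ((a m : ℝ) : ℂ) := by
      simp only [S, a, inner_sum, inner_smul_right, Complex.ofReal_sum]
      refine Finset.sum_congr rfl fun i _ => ?_
      rw [Complex.ofReal_pow, ← Complex.mul_conj', inner_conj_symm, mul_comm]
    have h2 := norm_inner_le_norm (𝕜 := ℂ) (b m) (S m)
    rw [h1, Complex.norm_real, b.orthonormal.1 m, one_mul] at h2
    exact (le_abs_self _).trans h2
  have hsum : ∑ m, ‖S m‖ ^ 2 = ∑ i, ∑ j, ‖⟪v i, v j⟫_ℂ‖ ^ 2 := by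
    have hC : ((∑ m, ‖S m‖ ^ 2 : ℝ) : ℂ) = ((∑ i, ∑ j, ‖⟪v i, v j⟫_ℂ‖ ^ 2 : ℝ) : ℂ) := by
      push_cast
      calc ∑ m, ((‖S m‖ : ℝ) : ℂ) ^ 2
          = ∑ m, ∑ i, ∑ j, ⟪v i, v j⟫_ℂ * (⟪v j, b m⟫_ℂ * ⟪b m, v i⟫_ℂ) := by
            refine Finset.sum_congr rfl fun m _ => ?_
            refine (inner_self_eq_norm_sq_to_K (𝕜 := ℂ) (S m)).symm.trans ?_
            simp only [S, sum_inner, inner_sum, inner_smul_left, inner_smul_right, inner_conj_symm,
              Finset.mul_sum]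
            rw [Finset.sum_comm]
            exact Finset.sum_congr rfl fun i _ => Finset.sum_congr rfl fun j _ => by ring
        _ = ∑ i, ∑ j, ((‖⟪v i, v j⟫_ℂ‖ : ℝ) : ℂ) ^ 2 := by
            rw [Finset.sum_comm]
            refine Finset.sum_congr rfl fun i _ => ?_
            rw [Finset.sum_comm]
            refine Finset.sum_congr rfl fun j _ => ?_
            rw [← Finset.mul_sum, b.sum_inner_mul_inner, ← Complex.mul_conj', inner_conj_symm]
    exact_mod_cast hC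
  rw [htr, ← hsum]
  calc (∑ m, a m) ^ 2 ≤ ((Finset.univ : Finset (Fin (finrank ℂ E))).card : ℝ) * ∑ m, a m ^ 2 :=
        sq_sum_le_card_mul_sum_sq
    _ ≤ (finrank ℂ E : ℝ) * ∑ m, ‖S m‖ ^ 2 := by
        rw [Finset.card_univ, Fintype.card_fin]
        refine mul_le_mul_of_nonneg_left (Finset.sum_le_sum fun m _ => ?_) (Nat.cast_nonneg _)
        exact pow_le_pow_left₀ (Finset.sum_nonneg fun i _ => sq_nonneg _) (hS m) 2

section Inner

variable {G : Type*} [Group G] [Fintype G] {n : ℕ} (ρ : Representation ℂ G (Fin n → ℂ))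

/-- The invariant inner product. -/
noncomputable def ip (v w : Fin n → ℂ) : ℂ :=
  ⟪H17.Blichfeldt.avgEmb ρ v, H17.Blichfeldt.avgEmb ρ w⟫_ℂ

variable {ρ}

theorem ip_rep (g : G) (v w : Fin n → ℂ) : ip ρ (ρ g v) (ρ g w) = ip ρ v w :=
  H17.Blichfeldt.inner_avgEmb_rep ρ g v w

theorem ip_move (g : G) (v w : Fin n → ℂ) : ip ρ v (ρ g w) = ip ρ (ρ g⁻¹ v) w := by
  conv_lhs => rw [← ip_rep g⁻¹]
  rw [← Module.End.mul_apply, ← map_mul, inv_mul_cancel, map_one, Module.End.one_apply]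

theorem ip_symm (v w : Fin n → ℂ) : conj (ip ρ v w) = ip ρ w v := inner_conj_symm _ _

theorem ip_smul_left (c : ℂ) (v w : Fin n → ℂ) : ip ρ (c • v) w = conj c * ip ρ v w := by
  simp [ip, inner_smul_left, mul_comm]

theorem ip_smul_right (c : ℂ) (v w : Fin n → ℂ) : ip ρ v (c • w) = c * ip ρ v w := by
  simp [ip, inner_smul_right]

theorem ip_sum_right {ι : Type*} (s : Finset ι) (v : Fin n → ℂ) (w : ι → Fin n → ℂ) :
    ip ρ v (∑ i ∈ s, w i) = ∑ i ∈ s, ip ρ v (w i) := by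
  simp [ip, map_sum, inner_sum]

theorem ip_sub_self (v w : Fin n → ℂ) :
    ip ρ (v - w) (v - w) = ip ρ v v - ip ρ v w - ip ρ w v + ip ρ w w := by
  simp only [ip, map_sub, inner_sub_left, inner_sub_right]
  ring

theorem ip_zero_left (w : Fin n → ℂ) : ip ρ 0 w = 0 := by simp [ip]

theorem eq_zero_of_ip_self {v : Fin n → ℂ} (h : ip ρ v v = 0) : v = 0 := by
  apply H17.Blichfeldt.avgEmb_injective ρ
  rw [map_zero]
  exact inner_self_eq_zero.1 h

theorem exists_unit {v : Fin n → ℂ} (hv : v ≠ 0) : ∃ c : ℂ, c ≠ 0 ∧ ip ρ (c • v) (c • v) = 1 := by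
  set r := ‖H17.Blichfeldt.avgEmb ρ v‖ with hr
  have hr0 : r ≠ 0 := fun h => hv (eq_zero_of_ip_self (ρ := ρ) (by
    rw [ip, norm_eq_zero.1 h, inner_zero_left]))
  refine ⟨((r⁻¹ : ℝ) : ℂ), by simp [hr0], ?_⟩
  rw [ip_smul_left, ip_smul_right, Complex.conj_ofReal, ip, inner_self_eq_norm_sq_to_K, ← hr]
  show ((r⁻¹ : ℝ) : ℂ) * (((r⁻¹ : ℝ) : ℂ) * (r : ℂ) ^ 2) = 1
  have : ((r : ℝ) : ℂ) ≠ 0 := Complex.ofReal_ne_zero.2 hr0
  push_cast
  field_simp

/-- A unit vector moved by an element to a vector at inner product one is fixed. -/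
theorem fixed_of_ip_one {g : G} {v : Fin n → ℂ} (hv : ip ρ v v = 1) (h : ip ρ v (ρ g v) = 1) :
    ρ g v = v := by
  refine sub_eq_zero.1 (eq_zero_of_ip_self (ρ := ρ) ?_)
  rw [ip_sub_self, ip_rep, hv, h, ← ip_symm v, h, map_one]
  ring

end Inner

end H34.GTwoDeg
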