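import Cfsg.Agent.H34.GTwoDeg.Struct
import Cfsg.Agent.H34.GTwoDeg.Form

/-!
Inner products between the fixed space of the two long roots and its translates by the root
groups of their negatives.
-/

set_option autoImplicit false
set_option linter.unusedSectionVars false
set_option linter.style.haveILetI false

namespace H34.GTwoDeg

open Cfsg.Lie H52
open H17.HeisDeg H17.HeisDeg.RootAct
open scoped ComplexConjugate InnerProductSpace

theorem p1_11 : pairOK 1 11 [(6, -1, 1, 1)] = true := by decide +kernel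
theorem p5_1 : pairOK 5 1 [(0, -1, 1, 1)] = true := by decide +kernel
theorem p1_0 : pairOK 1 0 [] = true := by decide +kernel

section Group

variable {F : Type*} [Field F]

/-- The translate indexed by a pair of parameters. -/
noncomputable def low (p : F × F) : ↥(chevG2.group F) := x 0 p.1 * x 1 p.2

theorem x1_x0 (u t : F) : x 0 u * x 1 t = x 1 t * x 0 u := by
  rw [x_swap p1_0]; simp

theorem low_add (p p' : F × F) : low (p + p') = low p * low p' := by
  simp only [low, Prod.fst_add, Prod.snd_add, x_add, mul_assoc]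
  congr 1
  rw [← mul_assoc, x1_x0 p'.1 p.2, mul_assoc]

theorem low_zero : low (0 : F × F) = 1 := by simp [low, x_zero]

theorem low_inv (p : F × F) : (low p)⁻¹ = low (-p) :=
  inv_eq_of_mul_eq_one_right (by rw [← low_add, add_neg_cancel, low_zero])

theorem tor_inv (A B : Fˣ) : (tor A B : ↥(chevG2.group F))⁻¹ = tor A⁻¹ B⁻¹ := by
  refine inv_eq_of_mul_eq_one_right ?_
  rw [← tor_mul, mul_inv_cancel, mul_inv_cancel]
  have h : (tor 1 1 : ↥(chevG2.group F)) * tor 1 1 = tor 1 1 := by rw [← tor_mul, one_mul]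
  exact mul_eq_left.1 h

theorem low_tor (ω : Fˣ) (hω : ω ^ 3 = 1) (p : F × F) : low p * tor ω 1 = tor ω 1 * low p := by
  have hωF : (ω : F) ^ 3 = 1 := by rw [← Units.val_pow_eq_pow_val, hω, Units.val_one]
  have h0 : (wt ω 1 0 : F) = 1 := by
    rw [wt_eq ω 1 0 (a := 0) (b := -1) (by decide +kernel), Units.val_one, one_zpow, zpow_zero,
      mul_one]
  have h1 : (wt ω 1 1 : F) = 1 := by
    rw [wt_eq ω 1 1 (a := -3) (b := 1) (by decide +kernel), Units.val_one, one_zpow, mul_one,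
      show (-3 : ℤ) = -((3 : ℕ) : ℤ) from rfl, zpow_neg, zpow_natCast, hωF, inv_one]
  rw [low, mul_assoc, x_tor_comm ω 1 (by decide) h1, ← mul_assoc,
    x_tor_comm ω 1 (by decide) h0, mul_assoc]

theorem nw_conj {i r : ℕ} (r' : ℕ)
    (h' : decide (i < 2) && decide (r < 12) && (chevG2.reflectRoot i r == r') = true) (t : F) :
    (nw i)⁻¹ * x r' t * nw i = x r ((sg i r : F) * t) := by
  simp only [Bool.and_eq_true, decide_eq_true_eq, beq_iff_eq] at h'
  obtain ⟨⟨hi, hr⟩, e⟩ := h'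
  subst e
  exact ne_conj (hC := checkedG2) hi (by rw [nroots12]; exact hr) t

/-- An element of the negative of `b` in the Bruhat decomposition of rank one. -/
theorem x5_eq {τ : Fˣ} {s : F} (hs : s = -((τ⁻¹ : Fˣ) : F)) :
    x 5 s = x 6 (-(τ : F)) * (tor 1 τ⁻¹ * nw 1) * x 6 (-(τ : F)) := by
  have h1 : (tor 1 τ⁻¹ : ↥(chevG2.group F)) * nw 1 = nn 6 (τ : F) := by
    have e : (nw 1 : ↥(chevG2.group F)) = nn 6 1 := by
      rw [nw1_eq, nn, simple_data.2.2.2, inv_one]
    rw [tor_one_eq, inv_inv, e, ← nn_inv (1 : F) rfl, inv_mul_cancel_right]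
  rw [h1, nn, simple_data.2.2.2, hs, Units.val_inv_eq_inv_val, ← x_inv 6 (τ : F)]
  simp only [mul_assoc]
  rw [inv_mul_cancel_left, mul_inv_cancel, mul_one]

end Group

variable {F : Type*} [Field F] [Fintype F] {k : ℕ}
  {ρ : Representation ℂ ↥(chevG2.group F) (Fin k → ℂ)} [Fintype ↥(chevG2.group F)]

theorem X_fixed {v : Fin k → ℂ} (hv : v ∈ X ρ) : Ev ρ v 10 1 ∧ Ev ρ v 11 1 := by
  simp only [X, mem_J_cons] at hv
  exact ⟨hv.1, hv.2.1⟩

theorem inv_stable {W : Submodule ℂ (Fin k → ℂ)} {g : ↥(chevG2.group F)}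
    (h : ∀ v ∈ W, ρ g v ∈ W) {v : Fin k → ℂ} (hv : v ∈ W) : ρ g⁻¹ v ∈ W := by
  have e : W.map (ρ g) = W := Submodule.eq_of_le_of_finrank_eq
    (by rintro _ ⟨w, hw, rfl⟩; exact h w hw)
    (LinearEquiv.finrank_eq (Submodule.equivMapOfInjective (ρ g) (rho_injective g) W)).symm
  obtain ⟨w, hw, rfl⟩ := e ▸ hv
  rwa [← Module.End.mul_apply, ← map_mul, inv_mul_cancel, map_one, Module.End.one_apply]

theorem nw1_stable {v : Fin k → ℂ} (hv : v ∈ X ρ) : ρ (nw 1) v ∈ X ρ := by
  obtain ⟨h10, h11⟩ := X_fixed hv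
  simp only [X, mem_J_cons]
  exact ⟨h11.refl1 10 (by decide +kernel), h10.refl1 11 (by decide +kernel), mem_J_nil⟩

/-- The sum over the root group of `b`. -/
noncomputable def avgSix (ρ : Representation ℂ ↥(chevG2.group F) (Fin k → ℂ))
    (v : Fin k → ℂ) : Fin k → ℂ :=
  ∑ u : F, ρ (x 6 u) v

theorem avgSix_mem {v : Fin k → ℂ} (hv : v ∈ X ρ) :
    avgSix ρ v ∈ J ρ [(6, (1 : AddChar F ℂ)), (10, 1), (11, 1)] := by
  have hX : avgSix ρ v ∈ X ρ := Submodule.sum_mem _ fun u _ => x6_stable u hv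
  simp only [X, mem_J_cons] at hX
  simp only [mem_J_cons]
  refine ⟨eg_one_iff.2 fun s => ?_, hX⟩
  show ρ (x 6 s) (avgSix ρ v) = avgSix ρ v
  rw [avgSix, map_sum]
  refine Fintype.sum_equiv (Equiv.addLeft s) _ _ fun u => ?_
  rw [← Module.End.mul_apply, ← map_mul, ← x_add, Equiv.coe_addLeft]

theorem ip_x1_avg {y w : Fin k → ℂ} {t : F} (ht : t ≠ 0) (hy : Ev ρ y 11 1) (hw : w ∈ X ρ) :
    (Fintype.card F : ℂ) * ip ρ y (ρ (x 1 t) w) = ip ρ y (ρ (x 1 t) (avgSix ρ w)) := by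
  have key : ∀ u : F, ip ρ y (ρ (x 1 t) w) = ip ρ y (ρ (x 1 t) (ρ (x 6 (t * u)) w)) := by
    intro u
    conv_lhs => rw [← ip_rep (x 11 u), hy.fixed, ← Module.End.mul_apply, ← map_mul, x_swap p1_11]
    simp only [List.map_cons, List.map_nil, List.prod_cons, List.prod_nil, mul_one, pow_one,
      Int.reduceNeg, Int.cast_neg, Int.cast_one, neg_mul, one_mul, neg_neg, map_mul,
      Module.End.mul_apply]
    rw [(X_fixed (x6_stable (t * u) hw)).2.fixed]
  rw [avgSix, map_sum, ip_sum_right, ← Finset.card_univ, ← nsmul_eq_mul, ← Finset.sum_const]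
  exact Fintype.sum_equiv (Equiv.mulLeft₀ t ht) _ _ key

/-- The inner product with a translate only sees the sums over the root group of `b`. -/
theorem ip_x1 {v w : Fin k → ℂ} {t : F} (ht : t ≠ 0) (hv : v ∈ X ρ) (hw : w ∈ X ρ) :
    (Fintype.card F : ℂ) * ((Fintype.card F : ℂ) * ip ρ v (ρ (x 1 t) w)) =
      ip ρ (avgSix ρ v) (ρ (x 1 t) (avgSix ρ w)) := by
  have hw' : avgSix ρ w ∈ X ρ := Submodule.sum_mem _ fun u _ => x6_stable u hw
  rw [ip_x1_avg ht (X_fixed hv).2 hw]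
  have h := congrArg conj (ip_x1_avg (neg_ne_zero.2 ht) (X_fixed hw').2 hv)
  rwa [map_mul, Complex.conj_natCast, ip_symm, ip_symm, ← x_inv, ← ip_move, ← ip_move] at h

variable (S : Small ρ)
include S

/-- Without fixed vector of the root `b` the fixed space is orthogonal to its translates. -/
theorem Small.ip_x1_zero (hd : d6 ρ 1 = 0) {v w : Fin k → ℂ} {t : F} (ht : t ≠ 0)
    (hv : v ∈ X ρ) (hw : w ∈ X ρ) : ip ρ v (ρ (x 1 t) w) = 0 := by
  have hq : (Fintype.card F : ℂ) ≠ 0 := Nat.cast_ne_zero.2 Fintype.card_ne_zero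
  have h := avgSix_mem hv
  rw [d6, Submodule.finrank_eq_zero] at hd
  rw [hd, Submodule.mem_bot] at h
  have e := ip_x1 ht hv hw
  rw [h, ip_zero_left] at e
  exact ((mul_eq_zero.1 e).resolve_left hq |> mul_eq_zero.1).resolve_left hq

section UnitVector

variable {f : Fin k → ℂ} (hf : f ∈ J ρ [(6, (1 : AddChar F ℂ)), (10, 1), (11, 1)])
  (hf1 : ip ρ f f = 1)
include hf hf1

omit S in
theorem f_ne : f ≠ 0 := fun h => by rw [h, ip_zero_left] at hf1; exact zero_ne_one hf1

theorem Small.avg_eq {v : Fin k → ℂ} (hv : v ∈ X ρ) :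
    avgSix ρ v = ((Fintype.card F : ℂ) * ip ρ f v) • f := by
  obtain ⟨c, hc⟩ := exists_smul_of_line (S.line_of_mem (f_ne hf hf1) hf) hf (f_ne hf hf1)
    (avgSix_mem hv)
  have h6 : Ev ρ f 6 1 := by simp only [mem_J_cons] at hf; exact hf.1
  have h : ip ρ f (avgSix ρ v) = (Fintype.card F : ℂ) * ip ρ f v := by
    rw [avgSix, ip_sum_right, ← Finset.card_univ, ← nsmul_eq_mul, ← Finset.sum_const]
    refine Finset.sum_congr rfl fun u _ => ?_
    rw [ip_move, x_inv, h6.fixed]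
  rw [← hc, ip_smul_right, hf1, mul_one] at h
  rw [← hc, h]

theorem Small.ip_x1_f {v w : Fin k → ℂ} {t : F} (ht : t ≠ 0) (hv : v ∈ X ρ) (hw : w ∈ X ρ) :
    ip ρ v (ρ (x 1 t) w) = conj (ip ρ f v) * ip ρ f w * ip ρ f (ρ (x 1 t) f) := by
  have hq : (Fintype.card F : ℂ) ≠ 0 := Nat.cast_ne_zero.2 Fintype.card_ne_zero
  have e := ip_x1 ht hv hw
  rw [S.avg_eq hf hf1 hv, S.avg_eq hf hf1 hw, map_smul, ip_smul_left, ip_smul_right, map_mul,
    Complex.conj_natCast] at e
  apply mul_left_cancel₀ hq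
  apply mul_left_cancel₀ hq
  rw [e]
  ring

/-- The eigenvalue of a torus element at the fixed vector. -/
theorem Small.exists_torus_char :
    ∃ χ : Fˣ →* ℂ, ∀ B : Fˣ, ρ (tor 1 B) f = χ B • f ∧ conj (χ B) * χ B = 1 ∧
      ρ (tor 1 B)⁻¹ f = (χ B)⁻¹ • f := by
  have hf0 := f_ne hf hf1
  have h : ∀ B : Fˣ, ∃ c : ℂ, c • f = ρ (tor 1 B) f := fun B =>
    exists_smul_of_line (S.line_of_mem hf0 hf) hf hf0 (tor_six (chScale_one _) hf)
  choose c hc using h
  have hmul : ∀ A B : Fˣ, c (A * B) = c A * c B := fun A B => smul_left_injective ℂ hf0 (by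
    show c (A * B) • f = (c A * c B) • f
    rw [hc, show tor 1 (A * B) = tor 1 A * tor 1 B from by rw [← tor_mul, one_mul], map_mul,
      Module.End.mul_apply, ← hc B, map_smul, ← hc A, smul_smul, mul_comm])
  have hne : ∀ B, c B ≠ 0 := fun B h0 => ne_zero_map hf0 (tor 1 B) (by rw [← hc, h0, zero_smul])
  refine ⟨⟨⟨c, ?_⟩, hmul⟩, fun B => ⟨(hc B).symm, ?_, ?_⟩⟩
  · have := hmul 1 1
    rw [one_mul] at this
    exact (mul_eq_left₀ (hne 1)).1 this.symm
  · have h2 := ip_rep (ρ := ρ) (tor 1 B) f f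
    rw [← hc, ip_smul_left, ip_smul_right, hf1, mul_one] at h2
    exact h2
  · apply rho_injective (ρ := ρ) (tor 1 B)
    rw [← Module.End.mul_apply, ← map_mul, mul_inv_cancel, map_one, Module.End.one_apply,
      map_smul, ← hc, smul_smul]
    show f = ((c B)⁻¹ * c B) • f
    rw [inv_mul_cancel₀ (hne B), one_smul]

theorem Small.ip_x5 {χ : Fˣ →* ℂ} (hχ : ∀ B : Fˣ, ρ (tor 1 B) f = χ B • f ∧
      conj (χ B) * χ B = 1 ∧ ρ (tor 1 B)⁻¹ f = (χ B)⁻¹ • f) {τ : Fˣ} {s : F}
    (hs : s = -((τ⁻¹ : Fˣ) : F)) :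
    ip ρ f (ρ (x 5 s) f) = χ τ⁻¹ * ip ρ f (ρ (nw 1) f) := by
  have h6 : Ev ρ f 6 1 := by simp only [mem_J_cons] at hf; exact hf.1
  rw [x5_eq hs, map_mul, map_mul, map_mul, Module.End.mul_apply, Module.End.mul_apply,
    Module.End.mul_apply, h6.fixed, ip_move, x_inv, h6.fixed, ip_move, (hχ τ⁻¹).2.2, ip_smul_left]
  congr 1
  have h := (hχ τ⁻¹).2.1
  have hne : conj (χ τ⁻¹) ≠ 0 := left_ne_zero_of_mul_eq_one h
  rw [map_inv₀, inv_eq_of_mul_eq_one_right h]

open Classical in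
/-- The translates of the fixed vector are nearly orthogonal to it. -/
theorem Small.kappa_le (hρ : ρ.IsIrreducible) (hk : 2 ≤ k) {t : F} (ht : t ≠ 0) :
    ‖ip ρ f (ρ (x 1 t) f)‖ ^ 2 ≤ 1 / (Fintype.card F : ℝ) := by
  obtain ⟨χ, hχ⟩ := S.exists_torus_char hf hf1
  set c := ip ρ f (ρ (nw 1) f) with hc
  set q := (Fintype.card F : ℝ) with hq
  have hq1 : (5 : ℝ) ≤ q := by rw [hq]; exact_mod_cast S.hq
  obtain ⟨hf7, -, -⟩ := S.fixed_line hf
  have hf4 := S.fixed_four hf
  have hf' := hf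
  simp only [mem_J_cons] at hf'
  obtain ⟨h6, h10, h11, -⟩ := hf'
  have hfX : f ∈ X ρ := by simp only [X, mem_J_cons]; exact ⟨h10, h11, mem_J_nil⟩
  have hχn : ∀ B, ‖χ B‖ = 1 := fun B => by
    have h := congrArg (‖·‖) (hχ B).2.1
    simp only [norm_mul, Complex.norm_conj, norm_one] at h
    nlinarith [norm_nonneg (χ B)]
  -- the translates of `f` reduce to `c`
  have hκ : ‖ip ρ f (ρ (x 1 t) f)‖ = ‖c‖ := by
    have n0 := fixed_nw0 hf7 hf4
    have e : ip ρ f (ρ (x 1 t) f) = ip ρ f (ρ (x 5 ((sg 0 5 : F) * t)) f) := by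
      rw [← nw_conj (i := 0) (r := 5) 1 (by decide +kernel), map_mul, map_mul,
        Module.End.mul_apply, Module.End.mul_apply, n0, ip_move (nw 0)⁻¹, inv_inv, n0]
    have hs0 : (sg 0 5 : F) * t ≠ 0 := mul_ne_zero (sg_ne_zero 0 5) ht
    rw [e, S.ip_x5 hf hf1 hχ (τ := (-(Units.mk0 _ hs0))⁻¹) (by rw [inv_inv]; simp), norm_mul, hχn,
      one_mul, ← hc]
  rw [hκ]
  -- a second evaluation of the sum over the root group of `b` at `n f`
  have hn := nw1_stable hfX
  have hS1 : ∑ u : F, ip ρ (ρ (nw 1) f) (ρ (x 6 u) (ρ (nw 1) f)) =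
      (Fintype.card F : ℂ) * (conj c * c) := by
    rw [← ip_sum_right, ← avgSix, S.avg_eq hf hf1 hn, ip_smul_right, ← hc, ← ip_symm f, ← hc]
    ring
  have hS2 : ∑ u : F, ip ρ (ρ (nw 1) f) (ρ (x 6 u) (ρ (nw 1) f)) =
      1 + c * ∑ B : Fˣ, χ B := by
    rw [← Finset.add_sum_erase _ _ (Finset.mem_univ (0 : F))]
    congr 1
    · rw [x_zero, map_one, Module.End.one_apply, ip_rep, hf1]
    · have himg : (Finset.univ.erase (0 : F)) = Finset.univ.image (Units.val : Fˣ → F) := by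
        ext a
        simp only [Finset.mem_erase, Finset.mem_univ, and_true, Finset.mem_image, true_and]
        exact ⟨fun h => ⟨Units.mk0 a h, rfl⟩, fun ⟨u, hu⟩ => hu ▸ u.ne_zero⟩
      rw [himg, Finset.sum_image (fun a _ b _ h => Units.ext h), Finset.mul_sum]
      have hsg : (sg 1 5 : F) ≠ 0 := sg_ne_zero 1 5
      refine Fintype.sum_equiv (Equiv.mulLeft (-(Units.mk0 _ hsg))) _ _ fun u => ?_
      have e : ip ρ (ρ (nw 1) f) (ρ (x 6 (u : F)) (ρ (nw 1) f)) =
          ip ρ f (ρ ((nw 1)⁻¹ * x 6 (u : F) * nw 1) f) := by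
        conv_lhs => rw [← ip_rep (nw 1)⁻¹]
        simp only [← Module.End.mul_apply, ← map_mul, inv_mul_cancel, map_one, Module.End.one_apply,
          mul_assoc]
      rw [e, nw_conj (i := 1) (r := 5) 6 (by decide +kernel),
        S.ip_x5 hf hf1 hχ (τ := (-(Units.mk0 _ hsg) * u)⁻¹) (by rw [inv_inv]; simp), inv_inv,
        Equiv.coe_mulLeft, mul_comm c]
  have heq := hS1.symm.trans hS2
  have hcq : ‖c‖ ^ 2 = c.re ^ 2 + c.im ^ 2 := by
    rw [← Complex.normSq_eq_norm_sq, Complex.normSq_apply]; ring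
  by_cases h1 : χ = 1
  · rw [h1] at heq
    simp only [MonoidHom.one_apply, Finset.sum_const, Finset.card_univ, nsmul_eq_mul, mul_one] at heq
    have hu : ((Fintype.card Fˣ : ℕ) : ℂ) = ((q - 1 : ℝ) : ℂ) := by
      rw [Fintype.card_units, Nat.cast_sub Fintype.card_pos, hq]
      push_cast
      rfl
    rw [hu, ← Complex.normSq_eq_conj_mul_self, Complex.normSq_apply] at heq
    have hre := congrArg Complex.re heq
    have him := congrArg Complex.im heq
    simp only [Complex.mul_re, Complex.mul_im, Complex.natCast_re, Complex.natCast_im,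
      Complex.ofReal_re, Complex.ofReal_im, Complex.add_re, Complex.add_im, Complex.one_re,
      Complex.one_im, mul_zero, zero_mul, sub_zero, add_zero, zero_add] at hre him
    rw [← hq] at hre
    have hi : c.im = 0 := by
      rcases mul_eq_zero.1 him.symm with h | h
      · exact h
      · exfalso; linarith
    rw [hi, mul_zero, add_zero] at hre
    have hfac : (c.re - 1) * (q * c.re + 1) = 0 := by linear_combination hre
    rcases mul_eq_zero.1 hfac with h | h
    · exfalso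
      have hc1 : c = 1 := Complex.ext (by simp; linarith) (by simp [hi])
      have n1 := fixed_of_ip_one hf1 (hc.symm.trans hc1)
      have h5 : Ev ρ f 5 1 := by
        have := h6.refl1 (i := 1) 5 (by decide +kernel)
        rwa [n1] at this
      exact no_fixed hρ hk (f_ne hf hf1) hf7 hf4 h6 h5
    · rw [hcq, hi, le_div_iff₀ (by linarith)]
      nlinarith
  · rw [sum_hom_units_eq_zero χ h1, mul_zero, add_zero, ← Complex.normSq_eq_conj_mul_self] at heq
    have h := congrArg Complex.re heq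
    simp only [Complex.mul_re, Complex.natCast_re, Complex.natCast_im, Complex.ofReal_re,
      Complex.ofReal_im, Complex.one_re, mul_zero, sub_zero, Complex.normSq_apply] at h
    rw [hcq, le_div_iff₀ (by linarith), hq]
    nlinarith

end UnitVector

end H34.GTwoDeg
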