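import Cfsg.Agent.H34.GTwoDeg.Inner

/-!
The translates of the fixed space of the two long roots span a large space.
-/

set_option autoImplicit false
set_option linter.unusedSectionVars false
set_option linter.style.haveILetI false

namespace H34.GTwoDeg

open Cfsg.Lie H52
open H17.HeisDeg H17.HeisDeg.RootAct
open scoped ComplexConjugate InnerProductSpace
open Module

variable {F : Type*} [Field F] [Fintype F] {k : ℕ}
  {ρ : Representation ℂ ↥(chevG2.group F) (Fin k → ℂ)} [Fintype ↥(chevG2.group F)]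

/-- Every nontrivial translate is a conjugate of an element of the root `-3a-b`. -/
theorem exists_conj_low {p : F × F} (hp : p ≠ 0) :
    ∃ (g : ↥(chevG2.group F)) (τ : F), τ ≠ 0 ∧ (∀ v ∈ X ρ, ρ g v ∈ X ρ) ∧
      low p = g⁻¹ * x 1 τ * g := by
  obtain ⟨s, t⟩ := p
  by_cases ht : t = 0
  · subst ht
    have hs : s ≠ 0 := fun h => hp (by rw [h]; rfl)
    refine ⟨nw 1, (sg 1 0 : F) * s, mul_ne_zero (sg_ne_zero 1 0) hs,
      fun v hv => nw1_stable hv, ?_⟩
    rw [nw_conj (i := 1) (r := 0) 1 (by decide +kernel), ← mul_assoc, sg_sq, one_mul, low, x_zero,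
      mul_one]
  · refine ⟨x 5 (s / t), t, ht, fun v hv => x5_stable _ hv, ?_⟩
    rw [mul_assoc, x_swap p5_1]
    simp only [List.map_cons, List.map_nil, List.prod_cons, List.prod_nil, mul_one, pow_one,
      Int.reduceNeg, Int.cast_neg, Int.cast_one, neg_mul, one_mul, neg_neg]
    rw [mul_assoc (x 5 (s / t)), inv_mul_cancel_left, div_mul_cancel₀ _ ht, ← x1_x0]
    rfl

/-- The Gram matrix of an orthonormal basis of the fixed space and a translate. -/
theorem Small.frob_le (S : Small ρ) (hρ : ρ.IsIrreducible) (hk : 2 ≤ k) {n : ℕ}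
    (e : Fin n → Fin k → ℂ) (he : ∀ i, e i ∈ X ρ)
    (hpar : ∀ w ∈ X ρ, ((∑ i, ‖ip ρ w (e i)‖ ^ 2 : ℝ) : ℂ) = ip ρ w w)
    {p : F × F} (hp : p ≠ 0) :
    ∑ i, ∑ j, ‖ip ρ (e i) (ρ (low p) (e j))‖ ^ 2 ≤
      if d6 ρ 1 = 0 then 0 else 1 / (Fintype.card F : ℝ) := by
  obtain ⟨g, τ, hτ, hg, hlow⟩ := exists_conj_low (ρ := ρ) hp
  have hentry : ∀ i j, ip ρ (e i) (ρ (low p) (e j)) = ip ρ (ρ g (e i)) (ρ (x 1 τ) (ρ g (e j))) :=
    fun i j => by
      rw [hlow, map_mul, map_mul, Module.End.mul_apply, Module.End.mul_apply, ip_move g⁻¹, inv_inv]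
  split_ifs with hd
  · refine le_of_eq (Finset.sum_eq_zero fun i _ => Finset.sum_eq_zero fun j _ => ?_)
    rw [hentry, S.ip_x1_zero hd hτ (hg _ (he i)) (hg _ (he j)), norm_zero, zero_pow two_ne_zero]
  · obtain ⟨f₀, hf₀, hf00⟩ :=
      (J ρ [(6, (1 : AddChar F ℂ)), (10, 1), (11, 1)]).exists_mem_ne_zero_of_ne_bot
        (fun h => hd (by rw [d6, h, finrank_bot]))
    obtain ⟨c, -, hc⟩ := exists_unit (ρ := ρ) hf00
    set f := c • f₀
    have hf : f ∈ J ρ [(6, (1 : AddChar F ℂ)), (10, 1), (11, 1)] := Submodule.smul_mem _ c hf₀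
    have hfX : f ∈ X ρ := by
      simp only [mem_J_cons] at hf
      simp only [X, mem_J_cons]
      exact hf.2
    set κ := ip ρ f (ρ (x 1 τ) f)
    have hκ : ‖κ‖ ^ 2 ≤ 1 / (Fintype.card F : ℝ) := S.kappa_le hf hc hρ hk hτ
    set w := ρ g⁻¹ f
    have hw : w ∈ X ρ := inv_stable hg hfX
    have hfe : ∀ i, ip ρ f (ρ g (e i)) = ip ρ w (e i) := fun i => ip_move g f (e i)
    have hsum : ∑ i, ‖ip ρ w (e i)‖ ^ 2 = (1 : ℝ) := by
      have h := hpar w hw
      rw [ip_rep, hc] at h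
      exact_mod_cast h
    calc ∑ i, ∑ j, ‖ip ρ (e i) (ρ (low p) (e j))‖ ^ 2
        = ∑ i, ∑ j, ‖ip ρ w (e i)‖ ^ 2 * (‖ip ρ w (e j)‖ ^ 2 * ‖κ‖ ^ 2) := by
          refine Finset.sum_congr rfl fun i _ => Finset.sum_congr rfl fun j _ => ?_
          rw [hentry, S.ip_x1_f hf hc hτ (hg _ (he i)) (hg _ (he j)), hfe, hfe, norm_mul, norm_mul,
            Complex.norm_conj]
          ring
      _ = ‖κ‖ ^ 2 := by
          simp only [← Finset.mul_sum, ← Finset.sum_mul, hsum, one_mul]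
      _ ≤ _ := hκ

/-- The translates of the fixed space span a large part of an eigenspace of a torus element of
order three. -/
theorem Small.eigen_ge (S : Small ρ) (hρ : ρ.IsIrreducible) (hk : 2 ≤ k) {ω : Fˣ}
    (hω : ω ^ 3 = 1) {lam : ℂ} (hlam : ∀ v ∈ X ρ, ρ (tor ω 1) v = lam • v) :
    ((Fintype.card F : ℝ) ^ 2 * finrank ℂ (X ρ)) ^ 2 ≤
      (finrank ℂ (Module.End.eigenspace (ρ (tor ω 1)) lam) : ℝ) *
        ((Fintype.card F : ℝ) ^ 2 * (finrank ℂ (X ρ) + ((Fintype.card F : ℝ) ^ 2 - 1) *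
          if d6 ρ 1 = 0 then 0 else 1 / (Fintype.card F : ℝ))) := by
  classical
  set ι := H17.Blichfeldt.avgEmb ρ
  set X' := (X ρ).map ι
  set W := (Module.End.eigenspace (ρ (tor ω 1)) lam).map ι
  have hι := H17.Blichfeldt.avgEmb_injective ρ
  have hX' : finrank ℂ X' = finrank ℂ (X ρ) :=
    (LinearEquiv.finrank_eq (Submodule.equivMapOfInjective ι hι (X ρ))).symm
  have hW : finrank ℂ W = finrank ℂ (Module.End.eigenspace (ρ (tor ω 1)) lam) :=
    (LinearEquiv.finrank_eq (Submodule.equivMapOfInjective ι hι _)).symm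
  set b := stdOrthonormalBasis ℂ X'
  choose e he hbe using fun i => Submodule.mem_map.1 (b i).2
  have hparR : ∀ w ∈ X ρ, ∑ i, ‖ip ρ w (e i)‖ ^ 2 = ‖ι w‖ ^ 2 := by
    intro w hw
    let w' : X' := ⟨ι w, Submodule.mem_map_of_mem hw⟩
    have h := b.sum_sq_norm_inner_left w'
    have e1 : ∀ i, ⟪w', b i⟫_ℂ = ip ρ w (e i) := fun i => by
      rw [Submodule.coe_inner]
      show _ = ⟪ι w, ι (e i)⟫_ℂ
      rw [hbe]
    simp only [e1] at h
    exact h
  have hpar : ∀ w ∈ X ρ, ((∑ i, ‖ip ρ w (e i)‖ ^ 2 : ℝ) : ℂ) = ip ρ w w := by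
    intro w hw
    rw [hparR w hw, show ip ρ w w = ⟪ι w, ι w⟫_ℂ from rfl, inner_self_eq_norm_sq_to_K,
      Complex.ofReal_pow]
    rfl
  have hmem : ∀ p i, ι (ρ (low p) (e i)) ∈ W := by
    intro p i
    refine Submodule.mem_map_of_mem ?_
    rw [Module.End.mem_eigenspace_iff, ← Module.End.mul_apply, ← map_mul, ← low_tor ω hω p,
      map_mul, Module.End.mul_apply, hlam _ (he i), map_smul]
  let v : (F × F) × Fin (finrank ℂ X') → W := fun a => ⟨ι (ρ (low a.1) (e a.2)), hmem a.1 a.2⟩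
  have hv : ∀ a, ‖v a‖ ^ 2 = 1 := fun a => by
    show ‖ι (ρ (low a.1) (e a.2))‖ ^ 2 = 1
    rw [H17.Blichfeldt.norm_avgEmb_rep, hbe]
    show ‖b a.2‖ ^ 2 = 1
    rw [b.orthonormal.1, one_pow]
  set q := (Fintype.card F : ℝ)
  set C := if d6 ρ 1 = 0 then 0 else 1 / (Fintype.card F : ℝ)
  let Φ : F × F → ℝ := fun p => ∑ i, ∑ j, ‖ip ρ (e i) (ρ (low p) (e j))‖ ^ 2
  have hΦ0 : Φ 0 = finrank ℂ (X ρ) := by
    have hone : ∀ i, ∑ j, ‖ip ρ (e i) (ρ (low (0 : F × F)) (e j))‖ ^ 2 = (1 : ℝ) := fun i => by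
      simp only [low_zero, map_one, Module.End.one_apply]
      rw [hparR (e i) (he i), hbe]
      show ‖b i‖ ^ 2 = 1
      rw [b.orthonormal.1, one_pow]
    simp only [Φ, hone, Finset.sum_const, Finset.card_univ, Fintype.card_fin, nsmul_eq_mul,
      mul_one, hX']
  have hΦ : ∀ p ≠ 0, Φ p ≤ C := fun p hp => S.frob_le hρ hk e he hpar hp
  have hgram : ∑ a, ∑ a', ‖⟪v a, v a'⟫_ℂ‖ ^ 2 = q ^ 2 * ∑ p, Φ p := by
    have e1 : ∀ a a', ⟪v a, v a'⟫_ℂ = ip ρ (e a.2) (ρ (low (a'.1 - a.1)) (e a'.2)) := by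
      intro a a'
      rw [Submodule.coe_inner]
      show ip ρ (ρ (low a.1) (e a.2)) (ρ (low a'.1) (e a'.2)) = _
      rw [← ip_rep (low a.1)⁻¹]
      simp only [← Module.End.mul_apply, ← map_mul, inv_mul_cancel, map_one, Module.End.one_apply,
        low_inv, ← low_add, neg_add_cancel, low_zero, neg_add_eq_sub, sub_self]
    simp only [e1]
    rw [Fintype.sum_prod_type]
    calc ∑ p : F × F, ∑ i, ∑ a' : (F × F) × Fin (finrank ℂ X'),
          ‖ip ρ (e i) (ρ (low (a'.1 - p)) (e a'.2))‖ ^ 2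
        = ∑ p : F × F, ∑ p' : F × F, Φ p' := by
          refine Finset.sum_congr rfl fun p _ => ?_
          rw [Fintype.sum_congr _ _ fun i => Fintype.sum_prod_type _, Finset.sum_comm]
          exact Fintype.sum_equiv (Equiv.subRight p) _ _ fun p' => rfl
      _ = _ := by
          rw [Finset.sum_const, Finset.card_univ, Fintype.card_prod, nsmul_eq_mul, Nat.cast_mul, sq]
  have h := gram_bound v
  rw [hgram] at h
  simp only [hv, Finset.sum_const, Finset.card_univ, Fintype.card_prod, Fintype.card_fin,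
    nsmul_eq_mul, mul_one, Nat.cast_mul] at h
  rw [hX', hW] at h
  rw [sq (Fintype.card F : ℝ)] at h ⊢
  refine h.trans (mul_le_mul_of_nonneg_left (mul_le_mul_of_nonneg_left ?_ ?_) (Nat.cast_nonneg _))
  · rw [← Finset.add_sum_erase _ _ (Finset.mem_univ (0 : F × F)), hΦ0]
    refine add_le_add le_rfl ((Finset.sum_le_sum fun p hp => hΦ p (Finset.ne_of_mem_erase hp)).trans
      (le_of_eq ?_))
    rw [Finset.sum_const, Finset.card_erase_of_mem (Finset.mem_univ _), Finset.card_univ,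
      Fintype.card_prod, nsmul_eq_mul, Nat.cast_sub (Nat.mul_pos Fintype.card_pos Fintype.card_pos),
      Nat.cast_mul, Nat.cast_one]
  · exact mul_self_nonneg _

end H34.GTwoDeg
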