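import Cfsg.Agent.H34.GTwoDeg.Upper
import Cfsg.Agent.H34.GTwoDeg.Lower
import Cfsg.Agent.H52.Simple

/-!
The minimal degree of `G₂(q)` when the characteristic is not three.
-/

set_option autoImplicit false
set_option linter.unusedSectionVars false
set_option linter.style.haveILetI false

namespace H34.GTwoDeg

open Cfsg.Lie H52
open H17.HeisDeg H17.HeisDeg.RootAct
open Module

variable {F : Type*} [Field F] [Fintype F] {k : ℕ}
  {ρ : Representation ℂ ↥(chevG2.group F) (Fin k → ℂ)}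

/-- The highest root group does not act trivially. -/
theorem top_ne (hρ : ρ.IsIrreducible) (hk : 2 ≤ k) (hq : 2 < Fintype.card F) :
    J ρ [(11, (1 : AddChar F ℂ))] ≠ ⊤ := by
  classical
  haveI : IsSimpleGroup ↥(chevG2.group F) := (group_simple (by simp) fun _ => by
    obtain ⟨a, ha⟩ : ∃ a : F, a ∉ ({0, 1} : Finset F) := by
      by_contra h
      simp only [not_exists, not_not] at h
      have := Finset.card_le_card (fun a (_ : a ∈ (Finset.univ : Finset F)) => h a)
      have := Finset.card_le_two (a := (0 : F)) (b := 1)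
      rw [Finset.card_univ] at *
      omega
    simp only [Finset.mem_insert, Finset.mem_singleton, not_or] at ha
    exact ⟨a, ha⟩).1
  intro htop
  refine xe_ne_one checkedG2 (r := 11) (by rw [nroots12]; norm_num) (one_ne_zero (α := F))
    (eq_one_of_rho_eq_one ρ hρ hk (LinearMap.ext fun v => ?_))
  have hv : v ∈ J ρ [(11, (1 : AddChar F ℂ))] := htop ▸ Submodule.mem_top
  simp only [mem_J_cons] at hv
  exact hv.1.fixed 1

/-- The degree and the fixed space of the two long roots in the extreme case. -/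
theorem cases_not_three (hρ : ρ.IsIrreducible) (hk : 2 ≤ k) (h3 : (3 : F) ≠ 0)
    (hq : 4 < Fintype.card F) :
    2 * ((Fintype.card F - 1) * (Fintype.card F ^ 2 + Fintype.card F)) ≤ k ∨
      ((∀ γ δ ψ : AddChar F ℂ, ψ ≠ 1 → m3 ρ γ δ ψ = 1) ∧
        (∀ γ δ : AddChar F ℂ, δ ≠ 1 → m3 ρ γ δ 1 = 1) ∧
        k = (Fintype.card F - 1) * (Fintype.card F ^ 2 + Fintype.card F) + finrank ℂ (X ρ) ∧
        Fintype.card F - 1 ≤ finrank ℂ (X ρ)) := by
  obtain ⟨a, hA, hB, hk'⟩ := shape (ρ := ρ) h3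
  rw [finrank_fin_fun] at hk'
  have ha := shape_pos (top_ne hρ hk (by omega)) hA
  rcases Nat.lt_or_ge a 2 with h | h
  · obtain rfl : a = 1 := by omega
    rw [mul_one] at hk'
    obtain ⟨δ, hδ⟩ := exists_ne_one (F := F)
    obtain ⟨v, hv0, h6, h8, h9, h11, h10⟩ := single_vector hq hB hδ
    exact Or.inr ⟨hA, hB, hk', card_le_fixed hv0 hδ h6 h8 h9 h11 h10⟩
  · left
    rw [hk', mul_comm 2]
    exact (Nat.mul_le_mul_left _ h).trans (Nat.le_add_right _ _)

theorem arith_base {q : ℕ} (hq : 1 ≤ q) : (q - 1) * (q ^ 2 + q) + q = q ^ 3 := by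
  obtain ⟨p, rfl⟩ : ∃ p, q = p + 1 := ⟨q - 1, by omega⟩
  rw [Nat.add_sub_cancel]
  ring

/-- The bound `q³ - 1`. -/
theorem bound_two (hρ : ρ.IsIrreducible) (hk : 2 ≤ k) (hq3 : Fintype.card F % 3 ≠ 0)
    (hq : 4 < Fintype.card F) : Fintype.card F ^ 3 - 1 ≤ k := by
  have hb := arith_base (q := Fintype.card F) (by omega)
  rcases cases_not_three hρ hk (three_ne_zero_of_card hq3) hq with h | ⟨-, -, hk', hd⟩
  · have : Fintype.card F ≤ (Fintype.card F - 1) * (Fintype.card F ^ 2 + Fintype.card F) :=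
      le_trans (le_trans (Nat.le_add_left _ _) (Nat.le_mul_of_pos_left _ (by omega))) le_rfl
    omega
  · omega

/-- The bound `q³ + 1` in the case `q ≡ 1 (mod 3)`. -/
theorem bound_one (hρ : ρ.IsIrreducible) (hk : 2 ≤ k) (hq3 : Fintype.card F % 3 = 1)
    (hq : 4 < Fintype.card F) : Fintype.card F ^ 3 + 1 ≤ k := by
  classical
  have hb := arith_base (q := Fintype.card F) (by omega)
  rcases cases_not_three hρ hk (three_ne_zero_of_card (by omega)) hq with h | ⟨hA, hB, hk', -⟩
  · have : Fintype.card F + 1 ≤ (Fintype.card F - 1) * (Fintype.card F ^ 2 + Fintype.card F) := by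
      calc Fintype.card F + 1 ≤ 1 * (Fintype.card F ^ 2 + Fintype.card F) := by nlinarith
        _ ≤ _ := Nat.mul_le_mul_right _ (by omega)
    omega
  by_contra hlt
  have S : Small ρ := ⟨hq, hB, by omega⟩
  haveI : Fintype ↥(chevG2.group F) := Fintype.ofFinite _
  haveI : Fact (Nat.Prime 3) := ⟨Nat.prime_three⟩
  obtain ⟨ω, hω⟩ := exists_prime_orderOf_dvd_card (G := Fˣ) 3 (by
    rw [Fintype.card_units]; omega)
  have hω3 : ω ^ 3 = 1 := hω ▸ pow_orderOf_eq_one ω
  obtain ⟨lam, hl0, hlam⟩ := S.scalar hρ hk hω3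
  have hup := S.eigen_le hA hω hl0
  have hlow := S.eigen_ge hρ hk hω3 hlam
  set r := finrank ℂ (Module.End.eigenspace (ρ (tor ω 1)) lam)
  set d := finrank ℂ (X ρ)
  have hd := S.finrank_X
  have hd1 := S.d6_one_le
  set q := Fintype.card F
  obtain ⟨p, hp⟩ : ∃ p, q = p + 1 := ⟨q - 1, by omega⟩
  by_cases h0 : d6 ρ 1 = 0
  · rw [if_pos h0, mul_zero, add_zero] at hlow
    have hdp : d = p := by omega
    have h1 : q ^ 2 * d ≤ r := by
      have hpos : (0 : ℝ) < (q : ℝ) ^ 2 * d := by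
        have : 0 < d := by omega
        positivity
      have : (q : ℝ) ^ 2 * d ≤ r := le_of_mul_le_mul_right (by rw [← sq]; exact hlow) hpos
      exact_mod_cast this
    rw [hdp, hp, Nat.add_sub_cancel] at hup
    rw [hdp, hp] at h1
    have : 4 ≤ p := by omega
    nlinarith
  · rw [if_neg h0] at hlow
    have hdq : d = q := by omega
    rw [hdq] at hlow hup
    have h1 : q ^ 3 ≤ 2 * r := by
      have hq0 : (0 : ℝ) < q := by exact_mod_cast (show 0 < q by omega)
      have e : (q : ℝ) ^ 2 * ((q : ℝ) + ((q : ℝ) ^ 2 - 1) * (1 / (q : ℝ))) = 2 * (q : ℝ) ^ 3 - q := by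
        field_simp
        ring
      rw [e] at hlow
      have h2 : ((q : ℝ) ^ 3) * (q : ℝ) ^ 3 ≤ (2 * (r : ℝ)) * (q : ℝ) ^ 3 := by
        refine le_trans (le_trans (le_of_eq (by ring)) hlow) ?_
        have : (0 : ℝ) ≤ r := Nat.cast_nonneg r
        nlinarith
      have := le_of_mul_le_mul_right h2 (pow_pos hq0 3)
      exact_mod_cast this
    rw [hp, Nat.add_sub_cancel] at hup
    rw [hp] at h1
    have : 4 ≤ p := by omega
    nlinarith

end H34.GTwoDeg
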