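import Cfsg.Agent.H34.GTwoDeg.Count
import Cfsg.Agent.H34.GTwoDeg.Fixed

/-!
The fixed space of the two long roots `3a+b`, `3a+2b` when its dimension is at most `q`.
-/

set_option autoImplicit false
set_option linter.unusedSectionVars false
set_option linter.style.haveILetI false

namespace H34.GTwoDeg

open Cfsg.Lie H52
open H17.HeisDeg H17.HeisDeg.RootAct

theorem p7_6 : pairOK 7 6 [(8, -1, 1, 1), (9, 1, 2, 1), (10, 1, 3, 1), (11, 1, 3, 2)] = true := by
  decide +kernel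
theorem p9_6 : pairOK 9 6 [] = true := by decide +kernel
theorem p8_6 : pairOK 8 6 [] = true := by decide +kernel
theorem p4_6 : pairOK 4 6 [] = true := by decide +kernel
theorem p4_11 : pairOK 4 11 [] = true := by decide +kernel
theorem p4_10 : pairOK 4 10 [(9, 1, 1, 1), (8, -1, 2, 1), (6, 1, 3, 1), (11, -1, 3, 2)] = true := by
  decide +kernel
theorem p5_10 : pairOK 5 10 [] = true := by decide +kernel
theorem p5_11 : pairOK 5 11 [(10, 1, 1, 1)] = true := by decide +kernel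

section Torus

variable {F : Type*} [Field F]

theorem x_tor (A B : Fˣ) {r : ℕ} (hr : decide (r < 12) = true) (t : F) :
    x r t * tor A B = tor A B * x r ((wt A B r : F) * t) := by
  have h := te_conj (hC := checkedG2) (fun i => if i.val = 0 then A⁻¹ else B⁻¹) (r := r)
    (by simp only [decide_eq_true_eq] at hr; rw [nroots12]; exact hr) t
  have e : (∏ l : Fin chevG2.rank,
      (fun i : Fin chevG2.rank => if i.val = 0 then A⁻¹ else B⁻¹)⁻¹ l ^ chevG2.cartan l.val r) =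
      wt A B r := by
    show ∏ l : Fin 2, _ = _
    rw [Fin.prod_univ_two]
    show (A⁻¹)⁻¹ ^ chevG2.cartan 0 r * (B⁻¹)⁻¹ ^ chevG2.cartan 1 r = wt A B r
    rw [inv_inv, inv_inv, wt]
  rw [e] at h
  rw [show x r ((wt A B r : F) * t) = (tor A B)⁻¹ * x r t * tor A B from h.symm]
  group

theorem x_tor_comm (A B : Fˣ) {r : ℕ} (hr : decide (r < 12) = true) (h : (wt A B r : F) = 1)
    (t : F) : x r t * tor A B = tor A B * x r t := by
  rw [x_tor A B hr, h, one_mul]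

theorem wt5 (A B : Fˣ) : (wt A B 5 : F) = (A : F) ^ (3 : ℤ) * (B : F) ^ (-2 : ℤ) :=
  wt_eq A B 5 (by decide +kernel)

theorem wt_pow_six (u : Fˣ) : (wt (u ^ 2) (u ^ 3) 6 : F) = 1 := by
  rw [wt6, Units.val_pow_eq_pow_val, Units.val_pow_eq_pow_val,
    show (-3 : ℤ) = -((3 : ℕ) : ℤ) from rfl, zpow_neg, zpow_natCast,
    show (2 : ℤ) = ((2 : ℕ) : ℤ) from rfl, zpow_natCast, ← pow_mul, ← pow_mul]
  exact inv_mul_cancel₀ (pow_ne_zero _ u.ne_zero)

theorem wt_pow_seven (u : Fˣ) : (wt (u ^ 2) (u ^ 3) 7 : F) = u := by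
  rw [wt7, Units.val_pow_eq_pow_val, Units.val_pow_eq_pow_val, zpow_neg_one,
    show (2 : ℤ) = ((2 : ℕ) : ℤ) from rfl, zpow_natCast]
  field_simp

theorem wt_sq_six (A : Fˣ) : (wt A (A ^ 2) 6 : F) = A := by
  rw [wt6, Units.val_pow_eq_pow_val, show (-3 : ℤ) = -((3 : ℕ) : ℤ) from rfl, zpow_neg,
    zpow_natCast, show (2 : ℤ) = ((2 : ℕ) : ℤ) from rfl, zpow_natCast]
  field_simp

end Torus

variable {F : Type*} [Field F] [Fintype F] {V : Type*} [AddCommGroup V] [Module ℂ V]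
  [FiniteDimensional ℂ V] (ρ : Representation ℂ ↥(chevG2.group F) V)

/-- The common fixed space of the two long roots. -/
abbrev X : Submodule ℂ V := J ρ [(10, (1 : AddChar F ℂ)), (11, (1 : AddChar F ℂ))]

/-- The multiplicity of an eigenvalue of the root `b` on it. -/
noncomputable def d6 (α : AddChar F ℂ) : ℕ :=
  Module.finrank ℂ (J ρ [(6, α), (10, (1 : AddChar F ℂ)), (11, 1)])

/-- The data used when the degree is small. -/
structure Small : Prop where
  hq : 4 < Fintype.card F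
  hB : ∀ γ δ : AddChar F ℂ, δ ≠ 1 → m3 ρ γ δ 1 = 1
  hX : Module.finrank ℂ (X ρ) ≤ Fintype.card F

variable {ρ}

theorem x6_stable (t : F) {v : V} (hv : v ∈ X ρ) : ρ (x 6 t) v ∈ X ρ := by
  simp only [X, mem_J_cons] at hv ⊢
  exact ⟨hv.1.keep1 p6_10 hv.2.1 t, hv.2.1.keep0 p6_11 t, mem_J_nil⟩

theorem x5_stable (t : F) {v : V} (hv : v ∈ X ρ) : ρ (x 5 t) v ∈ X ρ := by
  simp only [X, mem_J_cons] at hv ⊢
  exact ⟨hv.1.keep0 p5_10 t, hv.2.1.keep1 p5_11 hv.1 t, mem_J_nil⟩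

theorem tor_stable (A B : Fˣ) {v : V} (hv : v ∈ X ρ) : ρ (tor A B) v ∈ X ρ := by
  simp only [X, mem_J_cons] at hv ⊢
  exact ⟨hv.1.torus1 A B (by decide), hv.2.1.torus1 A B (by decide), mem_J_nil⟩

theorem tor_six {A B : Fˣ} {α α' : AddChar F ℂ} (h : chScale α (wt A B 6 : F) = α') {v : V}
    (hv : v ∈ J ρ [(6, α), (10, (1 : AddChar F ℂ)), (11, 1)]) :
    ρ (tor A B) v ∈ J ρ [(6, α'), (10, (1 : AddChar F ℂ)), (11, 1)] := by
  simp only [mem_J_cons] at hv ⊢
  exact ⟨h ▸ hv.1.torus A B (by decide), hv.2.1.torus1 A B (by decide),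
    hv.2.2.1.torus1 A B (by decide), mem_J_nil⟩

theorem X_split : Module.finrank ℂ (X ρ) = ∑ α : AddChar F ℂ, d6 ρ α :=
  J_split 6 _ fun t _ hv => x6_stable t hv

namespace Small

variable (S : Small ρ)
include S

theorem six_exists {α : AddChar F ℂ} (hα : α ≠ 1) :
    ∃ y : V, y ≠ 0 ∧ y ∈ J ρ [(6, α), (10, (1 : AddChar F ℂ)), (11, 1)] ∧ Ev ρ y 8 1 ∧
      Ev ρ y 9 1 := by
  obtain ⟨δ, hδ⟩ := exists_ne_one (F := F)
  obtain ⟨v, hv0, h6, h8, h9, h11, h10⟩ := single_vector S.hq S.hB hδ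
  obtain ⟨y, hy0, y6, y8, y9, y10, y11⟩ := six_vectors hv0 hδ h6 h8 h9 h11 h10 hα
  refine ⟨y, hy0, ?_, y8, y9⟩
  simp only [mem_J_cons]
  exact ⟨y6, y10, y11, mem_J_nil⟩

theorem one_le_d6 {α : AddChar F ℂ} (hα : α ≠ 1) : 1 ≤ d6 ρ α := by
  obtain ⟨y, hy0, hy, -⟩ := S.six_exists hα
  rw [Nat.one_le_iff_ne_zero, Ne, d6, Submodule.finrank_eq_zero]
  intro e
  rw [e, Submodule.mem_bot] at hy
  exact hy0 hy

open Classical in
theorem d6_eq {α : AddChar F ℂ} (hα : α ≠ 1) : d6 ρ α = 1 := by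
  refine le_antisymm ?_ (S.one_le_d6 hα)
  by_contra h2
  have hall : ∀ β ∈ Finset.univ.erase (1 : AddChar F ℂ), 2 ≤ d6 ρ β := by
    intro β hβ
    obtain ⟨μ, hμ⟩ := exists_chScale hα β
    have hμ0 : μ ≠ 0 := fun h => Finset.ne_of_mem_erase hβ (by rw [← hμ, h, chScale_nil])
    refine le_trans (by omega : 2 ≤ d6 ρ α)
      (J_le_of (g := tor (Units.mk0 μ hμ0) (Units.mk0 μ hμ0 ^ 2)) fun v hv => ?_)
    exact tor_six (by rw [wt_sq_six, Units.val_mk0, hμ]) hv
  have h := Finset.sum_le_sum hall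
  rw [Finset.sum_const, card_ne_one_chars, smul_eq_mul] at h
  have h' := Finset.sum_le_sum_of_subset (f := d6 ρ) (Finset.subset_univ (Finset.univ.erase 1))
  have := S.hX
  rw [X_split] at this
  have := S.hq
  omega

open Classical in
theorem d6_one_le : d6 ρ 1 ≤ 1 := by
  have h := S.hX
  rw [X_split, ← Finset.add_sum_erase _ _ (Finset.mem_univ (1 : AddChar F ℂ)),
    Finset.sum_congr rfl fun α hα => S.d6_eq (Finset.ne_of_mem_erase hα), Finset.sum_const,
    card_ne_one_chars, smul_eq_mul, mul_one] at h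
  have := S.hq
  omega

open Classical in
theorem finrank_X : Module.finrank ℂ (X ρ) = d6 ρ 1 + (Fintype.card F - 1) := by
  rw [X_split, ← Finset.add_sum_erase _ _ (Finset.mem_univ (1 : AddChar F ℂ)),
    Finset.sum_congr rfl fun α hα => S.d6_eq (Finset.ne_of_mem_erase hα), Finset.sum_const,
    card_ne_one_chars, smul_eq_mul, mul_one]

theorem line_of_mem {α : AddChar F ℂ} {v : V} (hv0 : v ≠ 0)
    (hv : v ∈ J ρ [(6, α), (10, (1 : AddChar F ℂ)), (11, 1)]) :
    Module.finrank ℂ (J ρ [(6, α), (10, (1 : AddChar F ℂ)), (11, 1)]) = 1 := by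
  refine le_antisymm ?_ ?_
  · by_cases hα : α = 1
    · subst hα; exact S.d6_one_le
    · exact (S.d6_eq hα).le
  · rw [Nat.one_le_iff_ne_zero, Ne, Submodule.finrank_eq_zero]
    intro e
    rw [e, Submodule.mem_bot] at hv
    exact hv0 hv

/-- Eigenvectors of `b` in the fixed space are fixed by `a`, `a+b`, `2a+b`. -/
theorem fixed_line {α : AddChar F ℂ} {v : V}
    (hv : v ∈ J ρ [(6, α), (10, (1 : AddChar F ℂ)), (11, 1)]) :
    Ev ρ v 7 1 ∧ Ev ρ v 8 1 ∧ Ev ρ v 9 1 := by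
  by_cases hv0 : v = 0
  · subst hv0
    exact ⟨fun t => by simp, fun t => by simp, fun t => by simp⟩
  have h1 := S.line_of_mem hv0 hv
  have hv' := hv
  simp only [mem_J_cons] at hv'
  obtain ⟨h6, h10, h11, -⟩ := hv'
  have h89 : Ev ρ v 8 1 ∧ Ev ρ v 9 1 := by
    by_cases hα : α = 1
    · subst hα
      obtain ⟨γ, hγ⟩ := char_of_line h1 hv hv0 (r := 9) fun t => by
        simp only [mem_J_cons]
        exact ⟨h6.keep0 p9_6 t, h10.keep0 p9_10 t, h11.keep0 p9_11 t, mem_J_nil⟩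
      obtain ⟨β, hβ⟩ := char_of_line h1 hv hv0 (r := 8) fun t => by
        simp only [mem_J_cons]
        exact ⟨h6.keep0 p8_6 t, h10.keep0 p8_10 t, h11.keep0 p8_11 t, mem_J_nil⟩
      obtain ⟨A, hA⟩ := exists_pow_ne_one (F := F) (n := 1) one_pos (by have := S.hq; omega)
      rw [pow_one] at hA
      have hγ1 : γ = 1 := by
        refine eq_one_of_chScale_eq ?_ (inv_of_line h1 hv hv0
          (tor_six (A := A) (B := 1) (chScale_one _) hv) hγ (hγ.torus A 1 (by decide)))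
        rwa [wt9, zpow_one, zpow_zero, mul_one]
      have hβ1 : β = 1 := by
        refine eq_one_of_chScale_eq ?_ (inv_of_line h1 hv hv0
          (tor_six (A := 1) (B := A) (chScale_one _) hv) hβ (hβ.torus 1 A (by decide)))
        rwa [wt8, Units.val_one, one_zpow, one_mul, zpow_one]
      subst hγ1 hβ1
      exact ⟨hβ, hγ⟩
    · obtain ⟨y, hy0, hy, y8, y9⟩ := S.six_exists hα
      obtain ⟨c, rfl⟩ := exists_smul_of_line h1 hy hy0 hv
      exact ⟨Eg.smul y8 c, Eg.smul y9 c⟩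
  obtain ⟨χ, hχ⟩ := char_of_line h1 hv hv0 (r := 7) fun t => by
    simp only [mem_J_cons]
    refine ⟨h6.keep p7_6 ?_ t, h10.keep0 p7_10 t, h11.keep0 p7_11 t, mem_J_nil⟩
    simp only [List.forall_mem_cons, List.not_mem_nil, IsEmpty.forall_iff, implies_true, and_true]
    exact ⟨h89.1, h89.2, h10, h11⟩
  obtain ⟨u, hu⟩ := exists_pow_ne_one (F := F) (n := 1) one_pos (by have := S.hq; omega)
  rw [pow_one] at hu
  have hχ1 : χ = 1 := eq_one_of_chScale_eq (by rwa [wt_pow_seven]) (inv_of_line h1 hv hv0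
    (tor_six (A := u ^ 2) (B := u ^ 3) (by rw [wt_pow_six, chScale_id]) hv) hχ
    (hχ.torus _ _ (by decide)))
  subst hχ1
  exact ⟨hχ, h89⟩

/-- The fixed space is fixed by the whole unipotent radical of the parabolic of `b`. -/
theorem fixed_X {v : V} (hv : v ∈ X ρ) : Ev ρ v 7 1 ∧ Ev ρ v 8 1 ∧ Ev ρ v 9 1 := by
  classical
  have e : Module.finrank ℂ (X ρ) ≤ Module.finrank ℂ
      ↥(X ρ ⊓ J ρ [(7, (1 : AddChar F ℂ)), (8, 1), (9, 1)]) := by
    have hst : ∀ t, ∀ w ∈ X ρ ⊓ J ρ [(7, (1 : AddChar F ℂ)), (8, 1), (9, 1)],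
        ρ (x 6 t) w ∈ X ρ ⊓ J ρ [(7, (1 : AddChar F ℂ)), (8, 1), (9, 1)] := by
      intro t w hw
      simp only [Submodule.mem_inf, mem_J_cons] at hw ⊢
      obtain ⟨⟨h10, h11, -⟩, h7, h8, h9, -⟩ := hw
      refine ⟨⟨h10.keep1 p6_10 h11 t, h11.keep0 p6_11 t, mem_J_nil⟩,
        h7.keep (l := [(8, 1, 1, 1), (9, 1, 1, 2), (10, -1, 1, 3), (11, -2, 2, 3)])
          (by decide +kernel) ?_ t, h8.keep0 p6_8 t, h9.keep0 p6_9 t, mem_J_nil⟩
      simp only [List.forall_mem_cons, List.not_mem_nil, IsEmpty.forall_iff, implies_true, and_true]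
      exact ⟨h8, h9, h10, h11⟩
    rw [X_split, split_sum 6 _ hst]
    refine Finset.sum_le_sum fun α _ => Submodule.finrank_mono fun w hw => ?_
    obtain ⟨h7, h8, h9⟩ := S.fixed_line hw
    simp only [Submodule.mem_inf, X, mem_J_cons] at hw ⊢
    exact ⟨⟨⟨hw.2.1, hw.2.2.1, mem_J_nil⟩, h7, h8, h9, mem_J_nil⟩, hw.1, mem_J_nil⟩
  have h := Submodule.eq_of_le_of_finrank_le inf_le_left e
  rw [← h] at hv
  simp only [Submodule.mem_inf, mem_J_cons] at hv
  exact ⟨hv.2.1, hv.2.2.1, hv.2.2.2.1⟩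

/-- A vector fixed by `b`, `3a+b`, `3a+2b` is fixed by `-a`. -/
theorem fixed_four {v : V} (hv : v ∈ J ρ [(6, (1 : AddChar F ℂ)), (10, 1), (11, 1)]) :
    Ev ρ v 4 1 := by
  by_cases hv0 : v = 0
  · subst hv0; exact fun t => by simp
  have h1 := S.line_of_mem hv0 hv
  obtain ⟨-, h8, h9⟩ := S.fixed_line hv
  have hv' := hv
  simp only [mem_J_cons] at hv'
  obtain ⟨h6, h10, h11, -⟩ := hv'
  obtain ⟨χ, hχ⟩ := char_of_line h1 hv hv0 (r := 4) fun t => by
    simp only [mem_J_cons]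
    refine ⟨h6.keep0 p4_6 t, h10.keep p4_10 ?_ t, h11.keep0 p4_11 t, mem_J_nil⟩
    simp only [List.forall_mem_cons, List.not_mem_nil, IsEmpty.forall_iff, implies_true, and_true]
    exact ⟨h9, h8, h6, h11⟩
  obtain ⟨A, hA⟩ := exists_pow_ne_one (F := F) (n := 1) one_pos (by have := S.hq; omega)
  rw [pow_one] at hA
  have hχ1 : χ = 1 := eq_one_of_chScale_eq
    (by rwa [wt4, Units.val_one, one_zpow, one_mul, zpow_one]) (inv_of_line h1 hv hv0
    (tor_six (A := 1) (B := A) (chScale_one _) hv) hχ (hχ.torus 1 A (by decide)))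
  subst hχ1
  exact hχ

end Small

section Scalar

variable {k : ℕ} {ρ : Representation ℂ ↥(chevG2.group F) (Fin k → ℂ)}

open Module in
/-- The torus element of order three is a scalar on the fixed space. -/
theorem Small.scalar (S : Small ρ) (hρ : ρ.IsIrreducible) (hk : 2 ≤ k) {ω : Fˣ}
    (hω : ω ^ 3 = 1) :
    ∃ lam : ℂ, lam ≠ 0 ∧ ∀ v ∈ X ρ, ρ (tor ω 1) v = lam • v := by
  classical
  set H := ρ (tor ω 1) with hH
  have hωF : (ω : F) ^ 3 = 1 := by rw [← Units.val_pow_eq_pow_val, hω, Units.val_one]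
  have h6w : (wt ω 1 6 : F) = 1 := by
    rw [wt6, Units.val_one, one_zpow, mul_one, show (-3 : ℤ) = -((3 : ℕ) : ℤ) from rfl, zpow_neg,
      zpow_natCast, hωF, inv_one]
  have h5w : (wt ω 1 5 : F) = 1 := by
    rw [wt5, Units.val_one, one_zpow, mul_one, show (3 : ℤ) = ((3 : ℕ) : ℤ) from rfl, zpow_natCast,
      hωF]
  have hline : ∀ α : AddChar F ℂ, ∀ v ∈ J ρ [(6, α), (10, (1 : AddChar F ℂ)), (11, 1)],
      H v ∈ J ρ [(6, α), (10, (1 : AddChar F ℂ)), (11, 1)] := fun α v hv =>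
    tor_six (by rw [h6w, chScale_id]) hv
  obtain ⟨α₀, hα₀⟩ := exists_ne_one (F := F)
  obtain ⟨y, hy0, hy, -⟩ := S.six_exists hα₀
  obtain ⟨lam, hlam⟩ := exists_smul_of_line (S.d6_eq hα₀) hy hy0 (hline α₀ y hy)
  have hl0 : lam ≠ 0 := fun h => ne_zero_map hy0 (tor ω 1) (by
    show H y = 0
    rw [← hlam, h, zero_smul])
  refine ⟨lam, hl0, ?_⟩
  have hother : ∀ α : AddChar F ℂ, α ≠ 1 →
      ∀ v ∈ J ρ [(6, α), (10, (1 : AddChar F ℂ)), (11, 1)], H v = lam • v := by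
    intro α hα v hv
    obtain ⟨μ, hμ⟩ := exists_chScale hα₀ α
    have hμ0 : μ ≠ 0 := fun h => hα (by rw [← hμ, h, chScale_nil])
    set T := tor (Units.mk0 μ hμ0) (Units.mk0 μ hμ0 ^ 2)
    have hTy : ρ T y ∈ J ρ [(6, α), (10, (1 : AddChar F ℂ)), (11, 1)] :=
      tor_six (by rw [wt_sq_six, Units.val_mk0, hμ]) hy
    obtain ⟨c, rfl⟩ := exists_smul_of_line (S.d6_eq hα) hTy (ne_zero_map hy0 T) hv
    rw [map_smul, smul_comm lam]
    congr 1
    rw [hH, ← Module.End.mul_apply, ← map_mul, tor_comm, map_mul, Module.End.mul_apply, ← hH,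
      ← hlam, map_smul]
  set K : ℂ → Submodule ℂ (Fin k → ℂ) := fun c => X ρ ⊓ Module.End.eigenspace H c
  have hK : ∀ c v, v ∈ K c ↔ v ∈ X ρ ∧ H v = c • v := fun c v => by
    simp [K, Module.End.mem_eigenspace_iff]
  have hKst : ∀ r : ℕ, decide (r < 12) = true → (wt ω 1 r : F) = 1 →
      (∀ t, ∀ v ∈ X ρ, ρ (x r t) v ∈ X ρ) → ∀ c t, ∀ v ∈ K c, ρ (x r t) v ∈ K c := by
    intro r hr hw hst c t v hv
    rw [hK] at hv ⊢
    refine ⟨hst t v hv.1, ?_⟩
    rw [hH, ← Module.End.mul_apply, ← map_mul, ← x_tor_comm ω 1 hr hw, map_mul,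
      Module.End.mul_apply, ← hH, hv.2, map_smul]
  have hsplit := split_sum 6 (K lam)
    (fun t v hv => hKst 6 (by decide) h6w (fun t v hv => x6_stable t hv) lam t v hv)
  have hge : ∀ α ∈ Finset.univ.erase (1 : AddChar F ℂ),
      1 ≤ finrank ℂ ↥(K lam ⊓ J ρ [(6, α)]) := by
    intro α hα
    have hα' := Finset.ne_of_mem_erase hα
    refine (S.d6_eq hα').ge.trans (Submodule.finrank_mono fun v hv => ?_)
    have h := hother α hα' v hv
    simp only [mem_J_cons] at hv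
    refine Submodule.mem_inf.2 ⟨(hK _ _).2 ⟨?_, h⟩, mem_J_cons.2 ⟨hv.1, mem_J_nil⟩⟩
    simp only [X, mem_J_cons]
    exact hv.2
  have hsum := Finset.sum_le_sum hge
  rw [Finset.sum_const, card_ne_one_chars, smul_eq_mul, mul_one] at hsum
  have hlam' : d6 ρ 1 ≠ 0 → lam = 1 := by
    intro hd
    by_contra hne
    obtain ⟨f, hf, hf0⟩ := (J ρ [(6, (1 : AddChar F ℂ)), (10, 1), (11, 1)]).exists_mem_ne_zero_of_ne_bot
      (fun e => hd (by rw [d6, e, finrank_bot]))
    obtain ⟨hf7, -, -⟩ := S.fixed_line hf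
    have hf4 := S.fixed_four hf
    have hf' := hf
    simp only [mem_J_cons] at hf'
    have hfX : f ∈ X ρ := by simp only [X, mem_J_cons]; exact hf'.2
    have hfix : H f = f := by
      rw [hH, tor_zero_eq]
      exact fixed_mul (fixed_nn hf7 (by rwa [simple_data.2.2.1]) _)
        (fixed_nn hf7 (by rwa [simple_data.2.2.1]) _)
    have hf1 : f ∈ K 1 := (hK 1 f).2 ⟨hfX, by rw [one_smul, hfix]⟩
    have hbot : K lam ⊓ K 1 = ⊥ := by
      rw [eq_bot_iff]
      intro v hv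
      rw [Submodule.mem_inf, hK, hK] at hv
      have h := hv.1.2.symm.trans hv.2.2
      rw [← sub_eq_zero, ← sub_smul] at h
      exact (smul_eq_zero.1 h).resolve_left (sub_ne_zero.2 hne)
    have h := Submodule.finrank_sup_add_finrank_inf_eq (K lam) (K 1)
    rw [hbot, finrank_bot, add_zero] at h
    have h' : finrank ℂ ↥(K lam ⊔ K 1) ≤ finrank ℂ (X ρ) :=
      Submodule.finrank_mono (sup_le inf_le_left inf_le_left)
    have h'' := Finset.sum_le_sum_of_subset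
      (f := fun α => finrank ℂ ↥(K lam ⊓ J ρ [(6, α)]))
      (Finset.subset_univ (Finset.univ.erase (1 : AddChar F ℂ)))
    have hK1 : finrank ℂ (K 1) = 1 := by
      refine le_antisymm ?_ (Nat.one_le_iff_ne_zero.2 fun e => ?_)
      · have := S.finrank_X
        have := S.d6_one_le
        omega
      · rw [Submodule.finrank_eq_zero] at e
        rw [e, Submodule.mem_bot] at hf1
        exact hf0 hf1
    obtain ⟨χ, hχ⟩ := char_of_line hK1 hf1 hf0 (r := 5) fun t =>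
      hKst 5 (by decide) h5w (fun t v hv => x5_stable t hv) 1 t f hf1
    obtain ⟨A, hA⟩ := exists_pow_ne_one (F := F) (n := 2) two_pos (by have := S.hq; omega)
    have hχ1 : χ = 1 := by
      refine eq_one_of_chScale_eq ?_ (inv_of_line (S.line_of_mem hf0 hf) hf hf0
        (tor_six (A := 1) (B := A) (chScale_one _) hf) hχ (hχ.torus 1 A (by decide)))
      rw [wt5, Units.val_one, one_zpow, one_mul, show (-2 : ℤ) = -((2 : ℕ) : ℤ) from rfl, zpow_neg,
        zpow_natCast, Ne, inv_eq_one]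
      exact hA
    subst hχ1
    exact no_fixed hρ hk hf0 hf7 hf4 hf'.1 hχ
  intro v hv
  have e : finrank ℂ (X ρ) ≤ finrank ℂ (K lam) := by
    rw [X_split, hsplit]
    refine Finset.sum_le_sum fun α _ => Submodule.finrank_mono fun w hw => ?_
    have hw' := hw
    simp only [mem_J_cons] at hw'
    have hwX : w ∈ X ρ := by simp only [X, mem_J_cons]; exact hw'.2
    refine Submodule.mem_inf.2 ⟨(hK _ _).2 ⟨hwX, ?_⟩, mem_J_cons.2 ⟨hw'.1, mem_J_nil⟩⟩
    by_cases hα : α = 1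
    · subst hα
      by_cases hw0 : w = 0
      · simp [hw0]
      have hd : d6 ρ 1 ≠ 0 := by rw [d6, S.line_of_mem hw0 hw]; exact one_ne_zero
      obtain ⟨hw7, -, -⟩ := S.fixed_line hw
      have hw4 := S.fixed_four hw
      rw [hlam' hd, one_smul, hH, tor_zero_eq]
      exact fixed_mul (fixed_nn hw7 (by rwa [simple_data.2.2.1]) _)
        (fixed_nn hw7 (by rwa [simple_data.2.2.1]) _)
    · exact hother α hα w hw
  have h := Submodule.eq_of_le_of_finrank_le inf_le_left e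
  rw [← h] at hv
  exact ((hK lam v).1 hv).2

end Scalar

end H34.GTwoDeg
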