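import Cfsg.Agent.H34.GTwoDeg.ThreeCount
import Cfsg.Agent.H34.GTwoDeg.Fixed

/-!
Case distinctions on the multiplicities in characteristic three.
-/

set_option autoImplicit false
set_option linter.unusedSectionVars false
set_option linter.style.haveILetI false

namespace H34.GTwoDeg.Three

open Cfsg.Lie H52
open H17.HeisDeg H17.HeisDeg.RootAct
open Module

theorem p7_6' : pairOK 7 6 [(8, -1, 1, 1), (9, 1, 2, 1), (10, 1, 3, 1), (11, 1, 3, 2)] = true := by
  decide +kernel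
theorem p6_7 : pairOK 6 7 [(8, 1, 1, 1), (9, 1, 1, 2), (10, -1, 1, 3), (11, -2, 2, 3)] = true := by
  decide +kernel
theorem p4_6' : pairOK 4 6 [] = true := by decide +kernel
theorem p4_10' : pairOK 4 10 [(9, 1, 1, 1), (8, -1, 2, 1), (6, 1, 3, 1), (11, -1, 3, 2)] = true := by
  decide +kernel
theorem p10_6 : pairOK 10 6 [(11, -1, 1, 1)] = true := by decide +kernel

section Basic

variable {F : Type*} [Field F]

theorem wt_scale_six (A : Fˣ) : (wt A (A ^ 2) 6 : F) = A := by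
  rw [wt6, Units.val_pow_eq_pow_val, show (-3 : ℤ) = -((3 : ℕ) : ℤ) from rfl, zpow_neg,
    zpow_natCast, show (2 : ℤ) = ((2 : ℕ) : ℤ) from rfl, zpow_natCast]
  field_simp

theorem chScale_sg_sq (χ : AddChar F ℂ) (i r : ℕ) :
    chScale (chScale χ (sg i r : F)) (sg i r : F) = χ :=
  DFunLike.ext _ _ fun t => by simp [chScale_apply, ← mul_assoc, sg_sq]

end Basic

variable {F : Type*} [Field F] [Fintype F] {V : Type*} [AddCommGroup V] [Module ℂ V]
  [FiniteDimensional ℂ V] {ρ : Representation ℂ ↥(chevG2.group F) V}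

theorem ne_zero_of_finrank {W : Submodule ℂ V} (h : 1 ≤ finrank ℂ W) : ∃ v ∈ W, v ≠ 0 :=
  W.exists_mem_ne_zero_of_ne_bot fun e => by rw [e, finrank_bot] at h; omega

theorem one_le_finrank {W : Submodule ℂ V} {v : V} (hv : v ∈ W) (h0 : v ≠ 0) :
    1 ≤ finrank ℂ W := by
  rw [Nat.one_le_iff_ne_zero, Ne, Submodule.finrank_eq_zero]
  intro e
  rw [e, Submodule.mem_bot] at hv
  exact h0 hv

theorem stable6_n3 {γ γ' : AddChar F ℂ} {ψ : AddChar F ℂ} (t : F) {v : V}
    (hv : v ∈ J ρ [(8, γ), (9, γ'), (11, ψ)]) :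
    ρ (x 6 t) v ∈ J ρ [(8, γ), (9, γ'), (11, ψ)] := by
  simp only [mem_J_cons] at hv ⊢
  exact ⟨hv.1.keep0 p6_8 t, hv.2.1.keep0 p6_9 t, hv.2.2.1.keep0 p6_11 t, mem_J_nil⟩

open Classical in
/-- Nonzero multiplicity at the highest root unless the eigenspaces at `2a+b` vanish. -/
theorem level_zero (h3 : (3 : F) = 0) (hq : 3 < Fintype.card F) {e ψ₀ : AddChar F ℂ} (he : e ≠ 1)
    (hψ₀ : ψ₀ ≠ 1) (h0 : m4 ρ 1 1 e ψ₀ = 0) : n3 ρ 1 e 1 = 0 := by
  by_contra hL
  have hd : m4 ρ 1 1 e 1 = n3 ρ 1 e 1 := by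
    rw [n3_split, ← Finset.add_sum_erase _ _ (Finset.mem_univ (1 : AddChar F ℂ)),
      Finset.sum_eq_zero fun δ hδ => ?_, add_zero]
    rw [mid_eq h3 he hψ₀ (Finset.ne_of_mem_erase hδ) he, h0]
  have hsplit := J_split (ρ := ρ) 6 [(10, (1 : AddChar F ℂ)), (8, 1), (9, e), (11, 1)]
    fun t v hv => by
      simp only [mem_J_cons] at hv ⊢
      obtain ⟨h10, h8, h9, h11, -⟩ := hv
      exact ⟨h10.keep1 p6_10 h11 t, h8.keep0 p6_8 t, h9.keep0 p6_9 t, h11.keep0 p6_11 t, mem_J_nil⟩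
  obtain ⟨α, hα⟩ : ∃ α : AddChar F ℂ,
      1 ≤ finrank ℂ (J ρ [(6, α), (10, (1 : AddChar F ℂ)), (8, 1), (9, e), (11, 1)]) := by
    by_contra hc
    apply hL
    rw [← hd, m4, hsplit]
    exact Finset.sum_eq_zero fun α _ => Nat.lt_one_iff.1 (Nat.not_le.1 fun h => hc ⟨α, h⟩)
  obtain ⟨v, hv, hv0⟩ := ne_zero_of_finrank hα
  simp only [mem_J_cons] at hv
  obtain ⟨h6, h10, h8, h9, h11, -⟩ := hv
  have key : ∀ t : F, t ≠ 0 → α * chScale e (t ^ 2) = 1 := by
    intro t ht
    have h7 : Ev ρ (ρ (x 7 t) v) 6 (α * chScale e (t ^ 2)) := fun u => by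
      refine (act p7_6' h6 (fun r => if r = 9 then e else 1) ?_ t u).trans ?_
      · simp only [List.forall_mem_cons, List.not_mem_nil, IsEmpty.forall_iff, implies_true,
          and_true]
        exact ⟨h8, h9, h10, h11⟩
      · simp [AddChar.mul_apply, chScale_apply]
    have h8' := seven_eight h3 h8 h9 h10 h11 t
    rw [one_mul] at h8'
    have h9' := seven_nine h3 h9 t
    have h11' := h11.keep0 p7_11 t
    by_contra hne
    have hmem : ρ (nw 0) (ρ (x 7 t) v) ∈
        J ρ [(10, chScale (α * chScale e (t ^ 2)) (sg 0 6 : F)), (8, chScale e (sg 0 9 : F)),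
          (9, chScale (chScale e (-t)) (sg 0 8 : F)), (11, 1)] := by
      simp only [mem_J_cons]
      exact ⟨h7.refl 10 (by decide +kernel), h9'.refl 8 (by decide +kernel),
        h8'.refl 9 (by decide +kernel), h11'.refl1 11 (by decide +kernel), mem_J_nil⟩
    have h := one_le_finrank hmem (ne_zero_map (ne_zero_map hv0 _) _)
    have hz := mid_eq (ρ := ρ) h3 he hψ₀ (chScale_ne_one hne (sg_ne_zero (F := F) 0 6))
      (chScale_ne_one (chScale_ne_one he (neg_ne_zero.2 ht)) (sg_ne_zero (F := F) 0 8))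
      (chScale e (sg 0 9 : F))
    rw [m4] at hz
    omega
  obtain ⟨a, ha⟩ := exists_pow_ne_one (F := F) (n := 2) two_pos (by omega)
  have h1 := key 1 one_ne_zero
  have h2 := key a a.ne_zero
  rw [one_pow] at h1
  exact ha (chScale_inj he (mul_left_cancel (h2.trans h1.symm)))

/-- The root group of `2a+b` does not act trivially, so its multiplicities do not all vanish. -/
theorem level_pos (h3 : (3 : F) = 0) {e ψ₀ : AddChar F ℂ} (he : e ≠ 1)
    (hψ₀ : ψ₀ ≠ 1) (h9 : J ρ [(9, (1 : AddChar F ℂ))] ≠ ⊤) (hq : 3 < Fintype.card F) :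
    1 ≤ m4 ρ 1 1 e ψ₀ := by
  classical
  by_contra h
  have h0 : m4 ρ 1 1 e ψ₀ = 0 := by omega
  have hL := level_zero h3 hq he hψ₀ h0
  refine h9 (Submodule.eq_top_of_finrank_eq ?_)
  have hsum : finrank ℂ V = ∑ γ' : AddChar F ℂ, finrank ℂ (J ρ [(9, γ')]) := by
    rw [← finrank_top ℂ V, ← J_nil (ρ := ρ)]
    exact J_split 9 _ fun _ _ _ => mem_J_nil
  rw [hsum, ← Finset.add_sum_erase _ _ (Finset.mem_univ (1 : AddChar F ℂ))]
  suffices hz : ∑ γ' ∈ Finset.univ.erase (1 : AddChar F ℂ), finrank ℂ (J ρ [(9, γ')]) = 0 by omega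
  refine Finset.sum_eq_zero fun γ' hγ' => ?_
  rw [J_split 11 _ fun t v hv => by
    simp only [mem_J_cons] at hv ⊢
    exact ⟨hv.1.keep0 p11_9 t, mem_J_nil⟩]
  refine Finset.sum_eq_zero fun ψ _ => ?_
  have e' : J ρ [(11, ψ), (9, γ')] = J ρ [(9, γ'), (11, ψ)] := by
    ext v; simp only [mem_J_cons]; tauto
  rw [e', split_nine_top h3]
  refine Finset.sum_eq_zero fun γ _ => ?_
  rw [n3_const h3 he γ γ' ψ (Or.inr (Finset.ne_of_mem_erase hγ'))]
  by_cases hψ : ψ = 1
  · rw [hψ, hL]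
  · rw [n3_split]
    refine Finset.sum_eq_zero fun δ _ => ?_
    rw [top_shape h3 he hψ₀ δ 1 e ψ hψ, if_neg fun h => he h.2, h0]

theorem level_ge (h3 : (3 : F) = 0) {e ψ₀ : AddChar F ℂ} (he : e ≠ 1) (hψ₀ : ψ₀ ≠ 1) :
    m4 ρ 1 1 e 1 + (Fintype.card F - 1) * m4 ρ 1 1 e ψ₀ = n3 ρ 1 e 1 := by
  classical
  rw [n3_split, ← Finset.add_sum_erase _ _ (Finset.mem_univ (1 : AddChar F ℂ)),
    Finset.sum_congr rfl fun δ hδ => mid_eq h3 he hψ₀ (Finset.ne_of_mem_erase hδ) he 1,
    Finset.sum_const, card_ne_one_chars, smul_eq_mul]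

open Classical in
/-- A nontrivial eigenvalue of `b` beside a nontrivial one of `2a+b` forces a large eigenspace. -/
theorem large_of_six (h3 : (3 : F) = 0) {e α : AddChar F ℂ} (he : e ≠ 1) (hα : α ≠ 1)
    (hne : 1 ≤ finrank ℂ (J ρ [(6, α), (8, (1 : AddChar F ℂ)), (9, e), (11, 1)])) :
    Fintype.card F * (Fintype.card F - 1) ≤ 6 * n3 ρ 1 e 1 := by
  set q := Fintype.card F
  have hdim : ∀ β : AddChar F ℂ,
      1 ≤ finrank ℂ (J ρ [(6, β), (8, (1 : AddChar F ℂ)), (9, e), (11, 1)]) →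
      q ≤ 3 * finrank ℂ (J ρ [(6, β), (8, (1 : AddChar F ℂ)), (9, e), (11, 1)]) := by
    intro β hβ
    have hsp := J_split (ρ := ρ) 10 [(6, β), (8, (1 : AddChar F ℂ)), (9, e), (11, 1)]
      fun t v hv => by
        simp only [mem_J_cons] at hv ⊢
        obtain ⟨h6, h8, h9, h11, -⟩ := hv
        exact ⟨h6.keep1 p10_6 h11 t, h8.keep0 p10_8 t, h9.keep0 p10_9 t, h11.keep0 p10_11 t,
          mem_J_nil⟩
    obtain ⟨δ₀, hδ₀⟩ : ∃ δ : AddChar F ℂ,
        1 ≤ finrank ℂ (J ρ [(10, δ), (6, β), (8, (1 : AddChar F ℂ)), (9, e), (11, 1)]) := by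
      by_contra hc
      rw [hsp, Finset.sum_eq_zero fun δ _ => Nat.lt_one_iff.1 (Nat.not_le.1 fun h => hc ⟨δ, h⟩)] at hβ
      omega
    obtain ⟨v, hv, hv0⟩ := ne_zero_of_finrank hδ₀
    simp only [mem_J_cons] at hv
    obtain ⟨h10, h6, h8, h9, h11, -⟩ := hv
    obtain ⟨μ, hμ⟩ := exists_chScale he β
    let g : F → AddChar F ℂ := fun t => δ₀ * chScale e (-(t + μ * t ^ 3))
    have hg : ∀ t, 1 ≤ finrank ℂ
        (J ρ [(10, g t), (6, β), (8, (1 : AddChar F ℂ)), (9, e), (11, 1)]) := by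
      intro t
      refine one_le_finrank (v := ρ (x 4 t) v) ?_ (ne_zero_map hv0 _)
      simp only [mem_J_cons]
      refine ⟨fun u => ?_, h6.keep0 p4_6' t, four_eight h3 h8 t, ?_, h11.keep0 p4_11 t, mem_J_nil⟩
      · refine (act p4_10' h10 (fun r => if r = 9 then e else if r = 6 then β else 1) ?_ t u).trans
          ?_
        · simp only [List.forall_mem_cons, List.not_mem_nil, IsEmpty.forall_iff, implies_true,
            and_true]
          exact ⟨h9, h8, h6, h11⟩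
        · congr 1
          simp only [g, AddChar.mul_apply, chScale_apply, List.map_cons, List.map_nil,
            List.prod_cons, List.prod_nil, if_true, AddChar.one_apply, Int.cast_one, one_mul,
            mul_one, pow_one, show (8 : ℕ) ≠ 9 from by norm_num, show (6 : ℕ) ≠ 9 from by norm_num,
            show (8 : ℕ) ≠ 6 from by norm_num, show (11 : ℕ) ≠ 9 from by norm_num,
            show (11 : ℕ) ≠ 6 from by norm_num, if_false, ← hμ]
          rw [← AddChar.map_add_eq_mul]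
          congr 2
          ring
      · simpa [chScale_one] using four_nine h3 h9 h8 t
    have hfib : ∀ δ ∈ Finset.univ.image g,
        (Finset.univ.filter fun t => g t = δ).card ≤ 3 := by
      intro δ hδ
      obtain ⟨s, -, rfl⟩ := Finset.mem_image.1 hδ
      have hd : ∀ t, g t = g s → t = s ∨ μ * (t - s) ^ 2 = -1 := by
        intro t ht
        have h := neg_injective (chScale_inj he (mul_left_cancel ht))
        have hd : (t - s) * (1 + μ * (t - s) ^ 2) = 0 := by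
          linear_combination h + (-(μ * t * s * (t - s))) * h3
        rcases mul_eq_zero.1 hd with h' | h'
        · exact Or.inl (sub_eq_zero.1 h')
        · exact Or.inr (by linear_combination h')
      by_cases hex : ∃ t, g t = g s ∧ t ≠ s
      · obtain ⟨t₀, ht₀, hts⟩ := hex
        have h0 := (hd t₀ ht₀).resolve_left hts
        refine (Finset.card_le_card (t := {s, t₀, s - (t₀ - s)}) fun t ht => ?_).trans
          Finset.card_le_three
        rw [Finset.mem_filter] at ht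
        simp only [Finset.mem_insert, Finset.mem_singleton]
        rcases hd t ht.2 with h | h
        · exact Or.inl h
        · have hμ0 : μ ≠ 0 := fun hμ0 => by simp [hμ0] at h
          have hsq : (t - s) ^ 2 = (t₀ - s) ^ 2 := mul_left_cancel₀ hμ0 (h.trans h0.symm)
          rcases sq_eq_sq_iff_eq_or_eq_neg.1 hsq with h' | h'
          · exact Or.inr (Or.inl (sub_left_inj.1 h'))
          · exact Or.inr (Or.inr (by linear_combination h'))
      · refine (Finset.card_le_card (t := {s}) fun t ht => ?_).trans (by simp)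
        rw [Finset.mem_filter] at ht
        rw [Finset.mem_singleton]
        by_contra hne'
        exact hex ⟨t, ht.2, hne'⟩
    have hcard := Finset.card_le_mul_card_image (Finset.univ : Finset F) 3 hfib
    rw [Finset.card_univ] at hcard
    refine hcard.trans (Nat.mul_le_mul_left 3 ?_)
    rw [hsp, Finset.card_eq_sum_ones]
    refine (Finset.sum_le_sum fun δ hδ => ?_).trans
      (Finset.sum_le_sum_of_subset (Finset.subset_univ _))
    obtain ⟨t, -, rfl⟩ := Finset.mem_image.1 hδ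
    exact hg t
  -- scaling the eigenvalue of `b` by squares
  let h : Fˣ → AddChar F ℂ := fun B => chScale α ((B : F) ^ 2)
  have hh : ∀ B, q ≤ 3 * finrank ℂ (J ρ [(6, h B), (8, (1 : AddChar F ℂ)), (9, e), (11, 1)]) := by
    intro B
    refine hdim _ (hne.trans (J_le_of (g := tor 1 B) fun v hv => ?_))
    simp only [mem_J_cons] at hv ⊢
    obtain ⟨h6, h8, h9, h11, -⟩ := hv
    refine ⟨?_, h8.torus1 _ _ (by decide), ?_, h11.torus1 _ _ (by decide), mem_J_nil⟩
    · have := h6.torus 1 B (by decide)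
      rwa [wt6, Units.val_one, one_zpow, one_mul, show (2 : ℤ) = ((2 : ℕ) : ℤ) from rfl,
        zpow_natCast] at this
    · have := h9.torus 1 B (by decide)
      rwa [wt9, Units.val_one, one_zpow, one_mul, zpow_zero, chScale_id] at this
  have hfib : ∀ β ∈ Finset.univ.image h, (Finset.univ.filter fun B => h B = β).card ≤ 2 := by
    intro β hβ
    obtain ⟨B₀, -, rfl⟩ := Finset.mem_image.1 hβ
    refine (Finset.card_le_card (t := {B₀, -B₀}) fun B hB => ?_).trans Finset.card_le_two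
    rw [Finset.mem_filter] at hB
    simp only [Finset.mem_insert, Finset.mem_singleton]
    rcases sq_eq_sq_iff_eq_or_eq_neg.1 (chScale_inj hα hB.2) with h' | h'
    · exact Or.inl (Units.ext h')
    · exact Or.inr (Units.ext (by rw [h', Units.val_neg]))
  have hcard := Finset.card_le_mul_card_image (Finset.univ : Finset Fˣ) 2 hfib
  rw [Finset.card_univ, Fintype.card_units] at hcard
  have hsum : (Finset.univ.image h).card * q ≤ 3 * n3 ρ 1 e 1 := by
    rw [n3, J_split 6 _ fun t v hv => stable6_n3 t hv, Finset.mul_sum, ← smul_eq_mul,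
      ← Finset.sum_const]
    refine (Finset.sum_le_sum fun β hβ => ?_).trans
      (Finset.sum_le_sum_of_subset (Finset.subset_univ _))
    obtain ⟨B, -, rfl⟩ := Finset.mem_image.1 hβ
    exact hh B
  calc q * (q - 1) ≤ q * (2 * (Finset.univ.image h).card) := Nat.mul_le_mul_left q hcard
    _ = 2 * ((Finset.univ.image h).card * q) := by ring
    _ ≤ 2 * (3 * n3 ρ 1 e 1) := Nat.mul_le_mul_left 2 hsum
    _ = 6 * n3 ρ 1 e 1 := by ring

/-- The situation in which `b` fixes all eigenvectors of `2a+b`. -/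
structure SixFixed (ρ : Representation ℂ ↥(chevG2.group F) V) (e ψ₀ : AddChar F ℂ) : Prop where
  h3 : (3 : F) = 0
  hq : 3 < Fintype.card F
  he : e ≠ 1
  hψ₀ : ψ₀ ≠ 1
  one : m4 ρ 1 1 e ψ₀ = 1
  fix : ∀ e' : AddChar F ℂ, e' ≠ 1 →
    ∀ v ∈ J ρ [(8, (1 : AddChar F ℂ)), (9, e'), (11, 1)], Ev ρ v 6 1

namespace SixFixed

variable {e ψ₀ : AddChar F ℂ} (S : SixFixed ρ e ψ₀)
include S

theorem four_translate {δ : AddChar F ℂ} {v : V}
    (hv : v ∈ J ρ [(10, δ), (8, (1 : AddChar F ℂ)), (9, e), (11, 1)]) (t : F) :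
    ρ (x 4 t) v ∈ J ρ [(10, δ * chScale e (-t)), (8, (1 : AddChar F ℂ)), (9, e), (11, 1)] := by
  have hv' : v ∈ J ρ [(8, (1 : AddChar F ℂ)), (9, e), (11, 1)] := J_mono (by simp) hv
  have h6 := S.fix e S.he v hv'
  simp only [mem_J_cons] at hv ⊢
  obtain ⟨h10, h8, h9, h11, -⟩ := hv
  refine ⟨fun u => ?_, four_eight S.h3 h8 t, ?_, h11.keep0 p4_11 t, mem_J_nil⟩
  · refine (act p4_10' h10 (fun r => if r = 9 then e else 1) ?_ t u).trans ?_
    · simp only [List.forall_mem_cons, List.not_mem_nil, IsEmpty.forall_iff, implies_true,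
        and_true]
      exact ⟨h9, h8, h6, h11⟩
    · simp [AddChar.mul_apply, chScale_apply]
  · simpa [chScale_one] using four_nine S.h3 h9 h8 t

theorem exists_vec : ∃ (δ : AddChar F ℂ) (v : V), δ ≠ 1 ∧ v ≠ 0 ∧
    v ∈ J ρ [(10, δ), (8, (1 : AddChar F ℂ)), (9, e), (11, 1)] := by
  obtain ⟨δ, hδ⟩ := exists_ne_one (F := F)
  have h := mid_eq (ρ := ρ) S.h3 S.he S.hψ₀ hδ S.he 1
  rw [S.one] at h
  obtain ⟨v, hv, hv0⟩ := ne_zero_of_finrank h.ge
  exact ⟨δ, v, hδ, hv0, hv⟩

theorem level : Fintype.card F ≤ n3 ρ 1 e 1 := by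
  obtain ⟨δ, v, hδ, hv0, hv⟩ := S.exists_vec
  obtain ⟨μ, hμ⟩ := exists_chScale S.he δ⁻¹
  have h1 : 1 ≤ m4 ρ 1 1 e 1 := by
    have h := S.four_translate hv (-μ)
    rw [neg_neg, hμ, mul_inv_cancel] at h
    exact one_le_finrank h (ne_zero_map hv0 _)
  have h := level_ge (ρ := ρ) S.h3 S.he S.hψ₀
  rw [S.one] at h
  omega

open Classical in
theorem eight_zero {δ γ : AddChar F ℂ} (hδ : δ ≠ 1) (hγ : γ ≠ 1) : m4 ρ δ γ 1 1 = 0 := by
  set e' := chScale γ (sg 0 9 : F)
  have he' : e' ≠ 1 := chScale_ne_one hγ (sg_ne_zero 0 9)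
  have hle : n3 ρ 1 e' 1 ≤ m4 ρ 1 γ 1 1 := by
    refine J_le_of (g := nw 0) fun v hv => ?_
    have h6 := S.fix e' he' v hv
    simp only [mem_J_cons] at hv ⊢
    obtain ⟨h8, h9, h11, -⟩ := hv
    refine ⟨h6.refl1 10 (by decide +kernel), ?_, h8.refl1 9 (by decide +kernel),
      h11.refl1 11 (by decide +kernel), mem_J_nil⟩
    simpa [e', chScale_sg_sq] using h9.refl (i := 0) 8 (by decide +kernel)
  rw [n3_const S.h3 S.he 1 e' 1 (Or.inr he'),
    ← n3_const S.h3 S.he γ 1 1 (Or.inl hγ), n3_split,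
    ← Finset.add_sum_erase _ _ (Finset.mem_univ (1 : AddChar F ℂ))] at hle
  have h := Finset.single_le_sum (f := fun δ => m4 ρ δ γ 1 1) (fun _ _ => Nat.zero_le _)
    (Finset.mem_erase.2 ⟨hδ, Finset.mem_univ δ⟩)
  omega

open Classical in
theorem base_eq {δ : AddChar F ℂ} (hδ : δ ≠ 1) :
    m4 ρ δ 1 1 1 = m4 ρ 1 1 1 ψ₀ + (Fintype.card F - 1) := by
  have h := mid_sum (ρ := ρ) S.h3 S.he S.hψ₀ 1 δ hδ
  rwa [if_pos rfl, S.one, mul_one, ← Finset.add_sum_erase _ _ (Finset.mem_univ (1 : AddChar F ℂ)),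
    Finset.sum_eq_zero fun γ hγ => S.eight_zero hδ (Finset.ne_of_mem_erase hγ), add_zero] at h

theorem six_split (δ : AddChar F ℂ) : m4 ρ δ 1 1 1 =
    ∑ α : AddChar F ℂ,
      finrank ℂ (J ρ [(6, α), (10, δ), (8, (1 : AddChar F ℂ)), (9, 1), (11, 1)]) :=
  J_split 6 _ fun t v hv => by
    simp only [mem_J_cons] at hv ⊢
    obtain ⟨h10, h8, h9, h11, -⟩ := hv
    exact ⟨h10.keep1 p6_10 h11 t, h8.keep0 p6_8 t, h9.keep0 p6_9 t, h11.keep0 p6_11 t, mem_J_nil⟩

open Classical in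
theorem six_pos {δ : AddChar F ℂ} (hδ : δ ≠ 1) (α : AddChar F ℂ) :
    1 ≤ finrank ℂ (J ρ [(6, α), (10, δ), (8, (1 : AddChar F ℂ)), (9, 1), (11, 1)]) := by
  obtain ⟨α₀, hα₀⟩ : ∃ α₀ : AddChar F ℂ,
      1 ≤ finrank ℂ (J ρ [(6, α₀), (10, δ), (8, (1 : AddChar F ℂ)), (9, 1), (11, 1)]) := by
    by_contra hc
    have h := S.base_eq hδ
    rw [S.six_split, Finset.sum_eq_zero fun α _ => Nat.lt_one_iff.1 (Nat.not_le.1 fun h => hc ⟨α, h⟩)] at h
    have := S.hq
    omega
  obtain ⟨μ, hμ⟩ := exists_chScale hδ (α₀⁻¹ * α)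
  haveI : CharP F 3 := CharP.charP_iff_prime_eq_zero Nat.prime_three |>.2 (by exact_mod_cast S.h3)
  haveI : Fact (Nat.Prime 3) := ⟨Nat.prime_three⟩
  obtain ⟨t, ht⟩ := (Finite.injective_iff_surjective.1 (frobenius_inj F 3)) (-μ)
  refine hα₀.trans (J_le_of (g := x 7 t) fun v hv => ?_)
  simp only [mem_J_cons] at hv ⊢
  obtain ⟨h6, h10, h8, h9, h11, -⟩ := hv
  refine ⟨fun u => ?_, h10.keep0 p7_10 t, ?_, seven_nine S.h3 h9 t, h11.keep0 p7_11 t, mem_J_nil⟩
  · refine (act p7_6' h6 (fun r => if r = 10 then δ else 1) ?_ t u).trans ?_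
    · simp only [List.forall_mem_cons, List.not_mem_nil, IsEmpty.forall_iff, implies_true,
        and_true]
      exact ⟨h8, h9, h10, h11⟩
    · rw [frobenius_def] at ht
      have hμ' : (-t) ^ 3 = μ := by rw [Odd.neg_pow (by decide), ht, neg_neg]
      have e2 : α u = α₀ u * δ (μ * u) := by
        rw [← chScale_apply, hμ, ← AddChar.mul_apply, mul_inv_cancel_left]
      simp [e2, hμ']
  · simpa [chScale_one] using seven_eight S.h3 h8 h9 h10 h11 t

open Classical in
theorem top_ge : 1 ≤ m4 ρ 1 1 1 ψ₀ := by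
  obtain ⟨δ, hδ⟩ := exists_ne_one (F := F)
  have h := S.base_eq hδ
  have hs := Finset.sum_le_sum (s := Finset.univ) (f := fun _ : AddChar F ℂ => 1)
    fun α _ => S.six_pos hδ α
  rw [← S.six_split, Finset.sum_const, Finset.card_univ, card_chars, smul_eq_mul, mul_one] at hs
  have := S.hq
  omega

open Classical in
/-- With top multiplicity one the common fixed space has dimension at least `2(q-1)`. -/
theorem fixed_ge (h1 : m4 ρ 1 1 1 ψ₀ = 1) : 2 * (Fintype.card F - 1) ≤ m4 ρ 1 1 1 1 := by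
  set q := Fintype.card F with hqdef
  have hq := S.hq
  obtain ⟨δ, hδ⟩ := exists_ne_one (F := F)
  have hline : finrank ℂ
      (J ρ [(6, (1 : AddChar F ℂ)), (10, δ), (8, 1), (9, 1), (11, 1)]) = 1 := by
    refine le_antisymm ?_ (S.six_pos hδ 1)
    have h := S.base_eq hδ
    rw [h1, S.six_split, ← Finset.add_sum_erase _ _ (Finset.mem_univ (1 : AddChar F ℂ))] at h
    have h2 := Finset.sum_le_sum (s := Finset.univ.erase (1 : AddChar F ℂ))
      (f := fun _ : AddChar F ℂ => 1) fun α _ => S.six_pos hδ α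
    rw [Finset.sum_const, card_ne_one_chars, smul_eq_mul, mul_one] at h2
    omega
  obtain ⟨v, hv, hv0⟩ := ne_zero_of_finrank hline.ge
  have hv' := hv
  simp only [mem_J_cons] at hv'
  obtain ⟨v6, v10, v8, v9, v11, -⟩ := hv'
  obtain ⟨χ, hχ⟩ := char_of_line hline hv hv0 (r := 4) fun t => by
    simp only [mem_J_cons]
    refine ⟨v6.keep0 p4_6' t, v10.keep p4_10' ?_ t, four_eight S.h3 v8 t, ?_, v11.keep0 p4_11 t,
      mem_J_nil⟩
    · simp only [List.forall_mem_cons, List.not_mem_nil, IsEmpty.forall_iff, implies_true,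
        and_true]
      exact ⟨v9, v8, v6, v11⟩
    · simpa [chScale_one] using four_nine S.h3 v9 v8 t
  obtain ⟨A, hA⟩ := exists_pow_ne_one (F := F) (n := 1) one_pos (by omega)
  rw [pow_one] at hA
  have hχ1 : χ = 1 := by
    refine eq_one_of_chScale_eq ?_ (inv_of_line hline hv hv0 (g := tor A (A ^ 3)) ?_ hχ
      (hχ.torus A (A ^ 3) (by decide)))
    · rw [wt4, Units.val_pow_eq_pow_val, show (-2 : ℤ) = -((2 : ℕ) : ℤ) from rfl, zpow_neg,
        zpow_natCast, zpow_one]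
      intro e1
      apply hA
      rw [← e1]
      field_simp
    · simp only [mem_J_cons]
      refine ⟨v6.torus1 _ _ (by decide), ?_, v8.torus1 _ _ (by decide), v9.torus1 _ _ (by decide),
        v11.torus1 _ _ (by decide), mem_J_nil⟩
      have h := v10.torus A (A ^ 3) (by decide)
      rwa [wt10, Units.val_pow_eq_pow_val, zpow_neg_one, show (3 : ℤ) = ((3 : ℕ) : ℤ) from rfl,
        zpow_natCast, mul_inv_cancel₀ (pow_ne_zero _ A.ne_zero), chScale_id] at h
  subst hχ1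
  -- eigenvectors of `b`
  have hy : ∀ α : AddChar F ℂ, α ≠ 1 → 1 ≤ finrank ℂ
      (J ρ [(6, α), (7, (1 : AddChar F ℂ)), (10, 1), (8, 1), (9, 1), (11, 1)]) := by
    intro α hα
    obtain ⟨μ, hμ⟩ := exists_chScale (chScale_ne_one hδ (sg_ne_zero (F := F) 0 10)) α
    have hμ0 : μ ≠ 0 := fun h => hα (by rw [← hμ, h, chScale_nil])
    set A' := Units.mk0 μ hμ0
    refine one_le_finrank (v := ρ (tor A' (A' ^ 2)) (ρ (nw 0) v)) ?_
      (ne_zero_map (ne_zero_map hv0 _) _)
    simp only [mem_J_cons]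
    refine ⟨?_, (hχ.refl1 7 (by decide +kernel)).torus1 _ _ (by decide),
      (v6.refl1 10 (by decide +kernel)).torus1 _ _ (by decide),
      (v9.refl1 8 (by decide +kernel)).torus1 _ _ (by decide),
      (v8.refl1 9 (by decide +kernel)).torus1 _ _ (by decide),
      (v11.refl1 11 (by decide +kernel)).torus1 _ _ (by decide), mem_J_nil⟩
    have h := (v10.refl (i := 0) 6 (by decide +kernel)).torus A' (A' ^ 2) (by decide)
    rwa [wt_scale_six, Units.val_mk0, hμ] at h
  -- eigenvectors of `a`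
  obtain ⟨δ', v', hδ', hv'0, hv'm⟩ := S.exists_vec
  set w := ∑ t : F, ρ (x 4 t) v' with hw
  have hw0 : w ≠ 0 := by
    have hli : LinearIndependent ℂ fun t : F => ρ (x 4 t) v' := by
      refine linearIndependent_eig (ρ := ρ) (u := x 10) (fun t : F => δ' * chScale e (-t))
        (fun a b h => neg_injective (chScale_inj S.he (mul_left_cancel h))) (fun t => ?_)
        fun t => ne_zero_map hv'0 _
      have h := S.four_translate hv'm t
      simp only [mem_J_cons] at h
      exact mem_eig.2 h.1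
    intro h0
    exact one_ne_zero (Fintype.linearIndependent_iff.1 hli (fun _ => (1 : ℂ))
      (by simpa [hw] using h0) 0)
  have hwmem : w ∈ J ρ [(8, (1 : AddChar F ℂ)), (9, e), (11, 1)] :=
    Submodule.sum_mem _ fun t _ => J_mono (by simp) (S.four_translate hv'm t)
  have w6 := S.fix e S.he w hwmem
  simp only [mem_J_cons] at hwmem
  obtain ⟨w8, w9, w11, -⟩ := hwmem
  have w4 : Ev ρ w 4 1 := eg_one_iff.2 fun s => by
    show ρ (x 4 s) w = w
    rw [hw, map_sum]
    refine Fintype.sum_equiv (Equiv.addLeft s) _ _ fun t => ?_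
    rw [← Module.End.mul_apply, ← map_mul, ← x_add, Equiv.coe_addLeft]
  set z := ρ (nw 1) (ρ (nw 0) w) with hz
  set η := chScale (chScale e (sg 0 9 : F)) (sg 1 8 : F) with hη
  have hη1 : η ≠ 1 := chScale_ne_one (chScale_ne_one S.he (sg_ne_zero 0 9)) (sg_ne_zero 1 8)
  have z7 : Ev ρ z 7 η := (w9.refl (i := 0) 8 (by decide +kernel)).refl 7 (by decide +kernel)
  have z8 : Ev ρ z 8 1 := (w4.refl1 (i := 0) 7 (by decide +kernel)).refl1 8 (by decide +kernel)
  have z9 : Ev ρ z 9 1 := (w8.refl1 (i := 0) 9 (by decide +kernel)).refl1 9 (by decide +kernel)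
  have z10 : Ev ρ z 10 1 := (w11.refl1 (i := 0) 11 (by decide +kernel)).refl1 10 (by decide +kernel)
  have z11 : Ev ρ z 11 1 := (w6.refl1 (i := 0) 10 (by decide +kernel)).refl1 11 (by decide +kernel)
  have hz' : ∀ χ : AddChar F ℂ, χ ≠ 1 → 1 ≤ finrank ℂ
      (J ρ [(7, χ), (10, (1 : AddChar F ℂ)), (8, 1), (9, 1), (11, 1)]) := by
    intro χ hχ'
    obtain ⟨μ, hμ⟩ := exists_chScale hη1 χ
    have hμ0 : μ ≠ 0 := fun h => hχ' (by rw [← hμ, h, chScale_nil])
    refine one_le_finrank (v := ρ (tor 1 (Units.mk0 μ hμ0)⁻¹) z) ?_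
      (ne_zero_map (ne_zero_map (ne_zero_map hw0 _) _) _)
    simp only [mem_J_cons]
    refine ⟨?_, z10.torus1 _ _ (by decide), z8.torus1 _ _ (by decide), z9.torus1 _ _ (by decide),
      z11.torus1 _ _ (by decide), mem_J_nil⟩
    have h := z7.torus 1 (Units.mk0 μ hμ0)⁻¹ (by decide)
    rwa [wt7, Units.val_one, one_zpow, one_mul, zpow_neg_one, ← Units.val_inv_eq_inv_val, inv_inv,
      Units.val_mk0, hμ] at h
  rw [m4, J_split 7 _ fun t u hu => by
    simp only [mem_J_cons] at hu ⊢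
    obtain ⟨h10, h8, h9, h11, -⟩ := hu
    refine ⟨h10.keep0 p7_10 t, ?_, seven_nine S.h3 h9 t, h11.keep0 p7_11 t, mem_J_nil⟩
    simpa [chScale_one] using seven_eight S.h3 h8 h9 h10 h11 t]
  rw [← Finset.add_sum_erase _ _ (Finset.mem_univ (1 : AddChar F ℂ)), two_mul]
  refine add_le_add ?_ ?_
  · rw [J_split 6 _ fun t u hu => by
      simp only [mem_J_cons] at hu ⊢
      obtain ⟨h7, h10, h8, h9, h11, -⟩ := hu
      refine ⟨h7.keep p6_7 ?_ t, h10.keep1 p6_10 h11 t, h8.keep0 p6_8 t, h9.keep0 p6_9 t,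
        h11.keep0 p6_11 t, mem_J_nil⟩
      simp only [List.forall_mem_cons, List.not_mem_nil, IsEmpty.forall_iff, implies_true,
        and_true]
      exact ⟨h8, h9, h10, h11⟩]
    rw [hqdef, ← card_ne_one_chars (F := F), Finset.card_eq_sum_ones]
    exact (Finset.sum_le_sum fun α hα => hy α (Finset.ne_of_mem_erase hα)).trans
      (Finset.sum_le_sum_of_subset (Finset.subset_univ _))
  · rw [hqdef, ← card_ne_one_chars (F := F), Finset.card_eq_sum_ones]
    exact Finset.sum_le_sum fun χ hχ' => hz' χ (Finset.ne_of_mem_erase hχ')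

end SixFixed

end H34.GTwoDeg.Three
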