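import Cfsg.Agent.H34.GTwoDeg.Count

/-!
Multiplicities of the characters of the abelian group of the roots `a+b`, `2a+b`, `3a+b`, `3a+2b`
in characteristic three.
-/

set_option autoImplicit false
set_option linter.unusedSectionVars false
set_option linter.style.haveILetI false

namespace H34.GTwoDeg.Three

open Cfsg.Lie H52
open H17.HeisDeg H17.HeisDeg.RootAct
open Module

theorem p7_8 : pairOK 7 8 [(9, -2, 1, 1), (10, -3, 2, 1), (11, 3, 1, 2)] = true := by decide +kernel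
theorem p4_8 : pairOK 4 8 [(6, -3, 1, 1)] = true := by decide +kernel
theorem p4_9 : pairOK 4 9 [(8, -2, 1, 1), (6, 3, 2, 1), (11, -3, 1, 2)] = true := by decide +kernel
theorem p4_11 : pairOK 4 11 [] = true := by decide +kernel
theorem p10_8 : pairOK 10 8 [] = true := by decide +kernel
theorem p10_9 : pairOK 10 9 [] = true := by decide +kernel
theorem p11_9 : pairOK 11 9 [] = true := by decide +kernel
theorem p9_8 : pairOK 9 8 [(11, -3, 1, 1)] = true := by decide +kernel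

section Relations

variable {F : Type*} [Field F] {V : Type*} [AddCommGroup V] [Module ℂ V]
  {ρ : Representation ℂ ↥(chevG2.group F) V}

/-- A term whose coefficient vanishes in the field does nothing. -/
theorem keepZero {a b k i j : ℕ} {c : ℤ} (h : pairOK a b [(k, c, i, j)] = true)
    (hc : (c : F) = 0) {v : V} {χ : AddChar F ℂ} (hb : Ev ρ v b χ) (t : F) :
    Ev ρ (ρ (x a t) v) b χ := fun u => by
  show ρ (x b u) (ρ (x a t) v) = χ u • ρ (x a t) v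
  rw [← Module.End.mul_apply, ← map_mul, x_swap h]
  simp [hc, x_zero, hb.eq_smul]

variable (h3 : (3 : F) = 0)
include h3

theorem three_zero : (((3 : ℤ)) : F) = 0 ∧ (((-3 : ℤ)) : F) = 0 := by
  push_cast; simp [h3]

theorem neg_two_eq : (((-2 : ℤ)) : F) = 1 := by
  push_cast; linear_combination -h3

/-- `-a` moves the eigenvalue of `2a+b` by the eigenvalue of `a+b`. -/
theorem four_nine {v : V} {χ γ : AddChar F ℂ} (hb : Ev ρ v 9 χ) (h8 : Ev ρ v 8 γ) (t : F) :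
    Ev ρ (ρ (x 4 t) v) 9 (χ * chScale γ (-t)) := fun u => by
  show ρ (x 9 u) (ρ (x 4 t) v) = _
  rw [← Module.End.mul_apply, ← map_mul, x_swap p4_9]
  simp only [List.map_cons, List.map_nil, List.prod_cons, List.prod_nil, mul_one, pow_one,
    neg_two_eq h3, (three_zero h3).1, (three_zero h3).2, zero_mul, one_mul, x_zero,
    map_mul, Module.End.mul_apply, h8.eq_smul, hb.eq_smul, map_smul, smul_smul,
    AddChar.mul_apply, chScale_apply]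
  rw [mul_comm]

/-- `a` moves the eigenvalue of `a+b` by the eigenvalue of `2a+b`. -/
theorem seven_eight {v : V} {χ γ δ ψ : AddChar F ℂ} (hb : Ev ρ v 8 χ) (h9 : Ev ρ v 9 γ)
    (h10 : Ev ρ v 10 δ) (h11 : Ev ρ v 11 ψ) (t : F) :
    Ev ρ (ρ (x 7 t) v) 8 (χ * chScale γ (-t)) := fun u => by
  refine (act p7_8 hb (fun r => if r = 9 then γ else if r = 10 then δ else ψ) ?_ t u).trans ?_
  · simp only [List.forall_mem_cons, List.not_mem_nil, IsEmpty.forall_iff, implies_true, and_true]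
    exact ⟨h9, h10, h11⟩
  · simp [neg_two_eq h3, (three_zero h3).1, (three_zero h3).2, AddChar.mul_apply, chScale_apply,
      h3]

theorem seven_nine {v : V} {χ : AddChar F ℂ} (hb : Ev ρ v 9 χ) (t : F) :
    Ev ρ (ρ (x 7 t) v) 9 χ :=
  keepZero p7_9 (three_zero h3).1 hb t

theorem eight_nine {v : V} {χ : AddChar F ℂ} (hb : Ev ρ v 9 χ) (t : F) :
    Ev ρ (ρ (x 8 t) v) 9 χ :=
  keepZero p8_9 (three_zero h3).1 hb t

theorem nine_eight {v : V} {χ : AddChar F ℂ} (hb : Ev ρ v 8 χ) (t : F) :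
    Ev ρ (ρ (x 9 t) v) 8 χ :=
  keepZero p9_8 (three_zero h3).2 hb t

theorem four_eight {v : V} {χ : AddChar F ℂ} (hb : Ev ρ v 8 χ) (t : F) :
    Ev ρ (ρ (x 4 t) v) 8 χ :=
  keepZero p4_8 (three_zero h3).2 hb t

end Relations

variable {F : Type*} [Field F] [Fintype F] {V : Type*} [AddCommGroup V] [Module ℂ V]
  [FiniteDimensional ℂ V] (ρ : Representation ℂ ↥(chevG2.group F) V)

/-- The multiplicity of a character of `a+b`, `2a+b`, `3a+2b`. -/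
noncomputable def n3 (γ γ' ψ : AddChar F ℂ) : ℕ :=
  finrank ℂ (J ρ [(8, γ), (9, γ'), (11, ψ)])

/-- The multiplicity of a character of `3a+b`, `a+b`, `2a+b`, `3a+2b`. -/
noncomputable def m4 (δ γ γ' ψ : AddChar F ℂ) : ℕ :=
  finrank ℂ (J ρ [(10, δ), (8, γ), (9, γ'), (11, ψ)])

variable {ρ}

theorem n3_split (γ γ' ψ : AddChar F ℂ) :
    n3 ρ γ γ' ψ = ∑ δ : AddChar F ℂ, m4 ρ δ γ γ' ψ :=
  J_split 10 _ fun t v hv => by
    simp only [mem_J_cons] at hv ⊢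
    exact ⟨hv.1.keep0 p10_8 t, hv.2.1.keep0 p10_9 t, hv.2.2.1.keep0 p10_11 t, mem_J_nil⟩

theorem shift_delta {ψ : AddChar F ℂ} (hψ : ψ ≠ 1) (δ δ' γ γ' : AddChar F ℂ) :
    m4 ρ δ γ γ' ψ ≤ m4 ρ δ' γ γ' ψ := by
  obtain ⟨μ, hμ⟩ := exists_chScale hψ (δ⁻¹ * δ')
  refine J_le_of (g := x 6 (-μ)) fun v hv => ?_
  simp only [mem_J_cons] at hv ⊢
  obtain ⟨h10, h8, h9, h11, -⟩ := hv
  refine ⟨?_, h8.keep0 p6_8 _, h9.keep0 p6_9 _, h11.keep0 p6_11 _, mem_J_nil⟩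
  have h := h10.shift p6_10 h11 (-μ)
  rwa [neg_neg, show (((1 : ℤ) : F)) * μ = μ from by push_cast; ring, hμ,
    mul_inv_cancel_left] at h

theorem m4_seven (h3 : (3 : F) = 0) {γ' : AddChar F ℂ} (hγ' : γ' ≠ 1) (δ γ γ₁ ψ : AddChar F ℂ) :
    m4 ρ δ γ γ' ψ ≤ m4 ρ δ γ₁ γ' ψ := by
  obtain ⟨μ, hμ⟩ := exists_chScale hγ' (γ⁻¹ * γ₁)
  refine J_le_of (g := x 7 (-μ)) fun v hv => ?_
  simp only [mem_J_cons] at hv ⊢
  obtain ⟨h10, h8, h9, h11, -⟩ := hv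
  refine ⟨h10.keep0 p7_10 _, ?_, seven_nine h3 h9 _, h11.keep0 p7_11 _, mem_J_nil⟩
  have h := seven_eight h3 h8 h9 h10 h11 (-μ)
  rwa [neg_neg, hμ, mul_inv_cancel_left] at h

theorem n3_seven (h3 : (3 : F) = 0) {γ' : AddChar F ℂ} (hγ' : γ' ≠ 1) (γ γ₁ ψ : AddChar F ℂ) :
    n3 ρ γ γ' ψ = n3 ρ γ₁ γ' ψ := by
  simp only [n3_split]
  exact Finset.sum_congr rfl fun δ _ =>
    le_antisymm (m4_seven h3 hγ' δ γ γ₁ ψ) (m4_seven h3 hγ' δ γ₁ γ ψ)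

theorem n3_four (h3 : (3 : F) = 0) {γ : AddChar F ℂ} (hγ : γ ≠ 1) (γ' γ₁ ψ : AddChar F ℂ) :
    n3 ρ γ γ' ψ = n3 ρ γ γ₁ ψ := by
  suffices h : ∀ a b : AddChar F ℂ, n3 ρ γ a ψ ≤ n3 ρ γ b ψ from le_antisymm (h _ _) (h _ _)
  intro a b
  obtain ⟨μ, hμ⟩ := exists_chScale hγ (a⁻¹ * b)
  refine J_le_of (g := x 4 (-μ)) fun v hv => ?_
  simp only [mem_J_cons] at hv ⊢
  obtain ⟨h8, h9, h11, -⟩ := hv
  refine ⟨four_eight h3 h8 _, ?_, h11.keep0 p4_11 _, mem_J_nil⟩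
  have h := four_nine h3 h9 h8 (-μ)
  rwa [neg_neg, hμ, mul_inv_cancel_left] at h

theorem n3_const (h3 : (3 : F) = 0) {e : AddChar F ℂ} (he : e ≠ 1) (γ γ' ψ : AddChar F ℂ)
    (h : γ ≠ 1 ∨ γ' ≠ 1) : n3 ρ γ γ' ψ = n3 ρ 1 e ψ := by
  rcases h with h | h
  · rw [n3_four h3 h γ' e ψ, n3_seven h3 he γ 1 ψ]
  · rw [n3_seven h3 h γ e ψ, n3_four h3 he γ' e ψ, n3_seven h3 he e 1 ψ]

theorem n3_scale {ψ ψ' : AddChar F ℂ} (hψ : ψ ≠ 1) (hψ' : ψ' ≠ 1) (γ' : AddChar F ℂ) :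
    n3 ρ 1 γ' ψ ≤ n3 ρ 1 γ' ψ' := by
  obtain ⟨μ, hμ⟩ := exists_chScale hψ ψ'
  have hμ0 : μ ≠ 0 := fun h => hψ' (by rw [← hμ, h, chScale_nil])
  refine J_le_of (g := tor 1 (Units.mk0 μ hμ0)) fun v hv => ?_
  simp only [mem_J_cons] at hv ⊢
  obtain ⟨h8, h9, h11, -⟩ := hv
  refine ⟨h8.torus1 _ _ (by decide), ?_, ?_, mem_J_nil⟩
  · have h := h9.torus 1 (Units.mk0 μ hμ0) (by decide)
    rwa [wt9, Units.val_one, one_zpow, one_mul, zpow_zero, chScale_id] at h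
  · have h := h11.torus 1 (Units.mk0 μ hμ0) (by decide)
    rwa [wt11, Units.val_one, one_zpow, one_mul, zpow_one, Units.val_mk0, hμ] at h

open Classical in
/-- The multiplicities on characters nontrivial at the highest root. -/
theorem top_shape (h3 : (3 : F) = 0) {e ψ₀ : AddChar F ℂ} (he : e ≠ 1) (hψ₀ : ψ₀ ≠ 1) :
    ∀ δ γ γ' ψ : AddChar F ℂ, ψ ≠ 1 → m4 ρ δ γ γ' ψ =
      if γ = 1 ∧ γ' = 1 then m4 ρ 1 1 1 ψ₀ else m4 ρ 1 1 e ψ₀ := by
  have hn : ∀ δ γ γ' ψ : AddChar F ℂ, ψ ≠ 1 →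
      n3 ρ γ γ' ψ = Fintype.card F * m4 ρ δ γ γ' ψ := by
    intro δ γ γ' ψ hψ
    rw [n3_split, Finset.sum_congr rfl fun δ' _ =>
      le_antisymm (shift_delta (ρ := ρ) hψ δ' δ γ γ') (shift_delta hψ δ δ' γ γ'),
      Finset.sum_const, Finset.card_univ, card_chars, smul_eq_mul]
  intro δ γ γ' ψ hψ
  refine Nat.eq_of_mul_eq_mul_left (Fintype.card_pos (α := F)) ?_
  rw [← hn δ γ γ' ψ hψ]
  split_ifs with h
  · rw [← hn 1 1 1 ψ₀ hψ₀, h.1, h.2]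
    exact le_antisymm (n3_scale hψ hψ₀ 1) (n3_scale hψ₀ hψ 1)
  · rw [← hn 1 1 e ψ₀ hψ₀, n3_const h3 he γ γ' ψ (not_and_or.1 h)]
    exact le_antisymm (n3_scale hψ hψ₀ e) (n3_scale hψ₀ hψ e)

theorem split_top_nine (h3 : (3 : F) = 0) (ψ : AddChar F ℂ) :
    finrank ℂ (J ρ [(11, ψ)]) = ∑ γ' : AddChar F ℂ, ∑ γ : AddChar F ℂ, n3 ρ γ γ' ψ := by
  rw [J_split 9 _ fun t v hv => by
    simp only [mem_J_cons] at hv ⊢
    exact ⟨hv.1.keep0 p9_11 t, mem_J_nil⟩]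
  refine Finset.sum_congr rfl fun γ' _ => ?_
  exact J_split 8 _ fun t v hv => by
    simp only [mem_J_cons] at hv ⊢
    exact ⟨eight_nine h3 hv.1 t, hv.2.1.keep0 p8_11 t, mem_J_nil⟩

theorem split_nine_top (h3 : (3 : F) = 0) (γ' ψ : AddChar F ℂ) :
    finrank ℂ (J ρ [(9, γ'), (11, ψ)]) = ∑ γ : AddChar F ℂ, n3 ρ γ γ' ψ :=
  J_split 8 _ fun t v hv => by
    simp only [mem_J_cons] at hv ⊢
    exact ⟨eight_nine h3 hv.1 t, hv.2.1.keep0 p8_11 t, mem_J_nil⟩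

theorem split_nine_ten (h3 : (3 : F) = 0) (γ' δ : AddChar F ℂ) :
    finrank ℂ (J ρ [(9, γ'), (10, δ)]) =
      ∑ ψ : AddChar F ℂ, ∑ γ : AddChar F ℂ, m4 ρ δ γ γ' ψ := by
  rw [J_split 11 _ fun t v hv => by
    simp only [mem_J_cons] at hv ⊢
    exact ⟨hv.1.keep0 p11_9 t, hv.2.1.keep0 p11_10 t, mem_J_nil⟩]
  refine Finset.sum_congr rfl fun ψ _ => ?_
  rw [J_split 8 _ fun t v hv => by
    simp only [mem_J_cons] at hv ⊢
    exact ⟨hv.1.keep0 p8_11 t, eight_nine h3 hv.2.1 t, hv.2.2.1.keep0 p8_10 t, mem_J_nil⟩]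
  refine Finset.sum_congr rfl fun γ _ => ?_
  have e : J ρ [(8, γ), (11, ψ), (9, γ'), (10, δ)] = J ρ [(10, δ), (8, γ), (9, γ'), (11, ψ)] := by
    ext v
    simp only [mem_J_cons]
    tauto
  rw [e]
  rfl

theorem swap_nine_top (γ' ψ : AddChar F ℂ) :
    finrank ℂ (J ρ [(9, γ'), (11, ψ)]) ≤
      finrank ℂ (J ρ [(9, chScale γ' (sg 1 9 : F)), (10, chScale ψ (sg 1 11 : F))]) :=
  J_le_of (g := nw 1) fun v hv => by
    simp only [mem_J_cons] at hv ⊢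
    exact ⟨hv.1.refl 9 (by decide +kernel), hv.2.1.refl 10 (by decide +kernel), mem_J_nil⟩

theorem swap_nine_ten (γ' δ : AddChar F ℂ) :
    finrank ℂ (J ρ [(9, γ'), (10, δ)]) ≤
      finrank ℂ (J ρ [(9, chScale γ' (sg 1 9 : F)), (11, chScale δ (sg 1 10 : F))]) :=
  J_le_of (g := nw 1) fun v hv => by
    simp only [mem_J_cons] at hv ⊢
    exact ⟨hv.1.refl 9 (by decide +kernel), hv.2.1.refl 11 (by decide +kernel), mem_J_nil⟩

open Classical in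
/-- The multiplicities on characters nontrivial at `3a+b`, summed over `a+b`. -/
theorem mid_sum (h3 : (3 : F) = 0) {e ψ₀ : AddChar F ℂ} (he : e ≠ 1) (hψ₀ : ψ₀ ≠ 1)
    (γ' δ : AddChar F ℂ) (hδ : δ ≠ 1) :
    ∑ γ : AddChar F ℂ, m4 ρ δ γ γ' 1 =
      if γ' = 1 then m4 ρ 1 1 1 ψ₀ + (Fintype.card F - 1) * m4 ρ 1 1 e ψ₀
      else Fintype.card F * m4 ρ 1 1 e ψ₀ := by
  set n0 := m4 ρ 1 1 1 ψ₀
  set n1 := m4 ρ 1 1 e ψ₀
  set N := if γ' = 1 then n0 + (Fintype.card F - 1) * n1 else Fintype.card F * n1 with hN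
  have hsum : ∀ δ' γ'' ψ : AddChar F ℂ, ψ ≠ 1 → (γ'' = 1 ↔ γ' = 1) →
      ∑ γ : AddChar F ℂ, m4 ρ δ' γ γ'' ψ = N := by
    intro δ' γ'' ψ hψ hiff
    by_cases h : γ' = 1
    · rw [hN, if_pos h, ← Finset.add_sum_erase _ _ (Finset.mem_univ (1 : AddChar F ℂ)),
        top_shape h3 he hψ₀ δ' 1 γ'' ψ hψ, if_pos ⟨rfl, hiff.2 h⟩,
        Finset.sum_congr rfl fun γ hγ => (top_shape h3 he hψ₀ δ' γ γ'' ψ hψ).trans
          (if_neg fun hc => Finset.ne_of_mem_erase hγ hc.1),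
        Finset.sum_const, card_ne_one_chars, smul_eq_mul]
    · rw [hN, if_neg h, Finset.sum_congr rfl fun γ _ => (top_shape h3 he hψ₀ δ' γ γ'' ψ hψ).trans
        (if_neg fun hc => h (hiff.1 hc.2)), Finset.sum_const, Finset.card_univ, card_chars,
        smul_eq_mul]
  have hiff : ∀ r : ℕ, chScale γ' (sg 1 r : F) = 1 ↔ γ' = 1 := fun r =>
    ⟨fun h => by_contra fun hne => chScale_ne_one hne (sg_ne_zero 1 r) h,
      fun h => by rw [h, chScale_one]⟩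
  have hL : ∀ γ'' ψ : AddChar F ℂ, ψ ≠ 1 → (γ'' = 1 ↔ γ' = 1) →
      finrank ℂ (J ρ [(9, γ''), (11, ψ)]) = Fintype.card F * N := by
    intro γ'' ψ hψ hi
    rw [split_nine_top h3]
    simp only [n3_split]
    rw [Finset.sum_comm, Finset.sum_congr rfl fun δ' _ => hsum δ' γ'' ψ hψ hi, Finset.sum_const,
      Finset.card_univ, card_chars, smul_eq_mul]
  have hR : ∀ γ'' δ' : AddChar F ℂ, (γ'' = 1 ↔ γ' = 1) →
      finrank ℂ (J ρ [(9, γ''), (10, δ')]) =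
        (Fintype.card F - 1) * N + ∑ γ : AddChar F ℂ, m4 ρ δ' γ γ'' 1 := by
    intro γ'' δ' hi
    rw [split_nine_ten h3, ← Finset.add_sum_erase _ _ (Finset.mem_univ (1 : AddChar F ℂ)),
      Finset.sum_congr rfl fun ψ hψ => hsum δ' γ'' ψ (Finset.ne_of_mem_erase hψ) hi,
      Finset.sum_const, card_ne_one_chars, smul_eq_mul, add_comm]
  have h1 := swap_nine_ten (ρ := ρ) γ' δ
  rw [hR γ' δ Iff.rfl, hL _ _ (chScale_ne_one hδ (sg_ne_zero 1 10)) (hiff 9)] at h1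
  -- the converse inequality, starting from the preimage
  have h2 := swap_nine_top (ρ := ρ) (chScale γ' (sg 1 9 : F)) (chScale δ (sg 1 11 : F))
  rw [hL _ _ (chScale_ne_one hδ (sg_ne_zero 1 11)) (hiff 9), chScale_chScale, chScale_chScale,
    sg_sq, sg_sq, chScale_id, chScale_id, hR γ' δ Iff.rfl] at h2
  have hq : 1 ≤ Fintype.card F := Fintype.card_pos
  obtain ⟨p, hp⟩ : ∃ p, Fintype.card F = p + 1 := ⟨Fintype.card F - 1, by omega⟩
  rw [hp, Nat.add_sub_cancel, Nat.succ_mul] at h1 h2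
  omega

open Classical in
/-- The degree in terms of the multiplicities. -/
theorem degree_eq (h3 : (3 : F) = 0) {e ψ₀ : AddChar F ℂ} (he : e ≠ 1) (hψ₀ : ψ₀ ≠ 1) :
    finrank ℂ V = (Fintype.card F - 1) * Fintype.card F *
        (m4 ρ 1 1 1 ψ₀ + (Fintype.card F ^ 2 - 1) * m4 ρ 1 1 e ψ₀) +
      (Fintype.card F ^ 2 - 1) * n3 ρ 1 e 1 + n3 ρ 1 1 1 := by
  obtain ⟨p, hp⟩ : ∃ p, Fintype.card F = p + 1 :=
    ⟨Fintype.card F - 1, by have := Fintype.card_pos (α := F); omega⟩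
  have hsq : Fintype.card F ^ 2 - 1 = p * p + 2 * p := by
    rw [hp]; exact Nat.sub_eq_of_eq_add (by ring)
  have hphi : ∀ ψ : AddChar F ℂ, ∀ a b : ℕ, n3 ρ 1 1 ψ = a →
      (∀ γ γ' : AddChar F ℂ, γ ≠ 1 ∨ γ' ≠ 1 → n3 ρ γ γ' ψ = b) →
      finrank ℂ (J ρ [(11, ψ)]) = a + (p * p + 2 * p) * b := by
    intro ψ a b ha hb
    rw [split_top_nine h3, ← Finset.add_sum_erase _ _ (Finset.mem_univ (1 : AddChar F ℂ)),
      ← Finset.add_sum_erase _ _ (Finset.mem_univ (1 : AddChar F ℂ)), ha,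
      Finset.sum_congr rfl fun γ hγ => hb γ 1 (Or.inl (Finset.ne_of_mem_erase hγ)),
      Finset.sum_congr rfl fun γ' hγ' => Finset.sum_congr rfl fun γ _ =>
        hb γ γ' (Or.inr (Finset.ne_of_mem_erase hγ'))]
    simp only [Finset.sum_const, card_ne_one_chars, Finset.card_univ, card_chars, smul_eq_mul, hp,
      Nat.add_sub_cancel]
    ring
  rw [finrank_eq_sum (ρ := ρ), ← Finset.add_sum_erase _ _ (Finset.mem_univ (1 : AddChar F ℂ)),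
    hphi 1 _ _ rfl fun γ γ' h => n3_const h3 he γ γ' 1 h,
    Finset.sum_congr rfl fun ψ hψ => hphi ψ (Fintype.card F * m4 ρ 1 1 1 ψ₀)
      (Fintype.card F * m4 ρ 1 1 e ψ₀)
      (by
        rw [n3_split, Finset.sum_congr rfl fun δ _ =>
          (top_shape h3 he hψ₀ δ 1 1 ψ (Finset.ne_of_mem_erase hψ)).trans (if_pos ⟨rfl, rfl⟩)]
        simp [card_chars])
      fun γ γ' h => by
        rw [n3_split, Finset.sum_congr rfl fun δ _ =>
          (top_shape h3 he hψ₀ δ γ γ' ψ (Finset.ne_of_mem_erase hψ)).trans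
            (if_neg (not_and_or.2 h))]
        simp [card_chars],
    Finset.sum_const, card_ne_one_chars, smul_eq_mul, hsq, hp, Nat.add_sub_cancel]
  ring

/-- Multiplicities at nontrivial characters of `2a+b` and `3a+b`. -/
theorem mid_eq (h3 : (3 : F) = 0) {e ψ₀ : AddChar F ℂ} (he : e ≠ 1) (hψ₀ : ψ₀ ≠ 1)
    {δ γ' : AddChar F ℂ} (hδ : δ ≠ 1) (hγ' : γ' ≠ 1) (γ : AddChar F ℂ) :
    m4 ρ δ γ γ' 1 = m4 ρ 1 1 e ψ₀ := by
  classical
  have h := mid_sum (ρ := ρ) h3 he hψ₀ γ' δ hδ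
  rw [if_neg hγ', Finset.sum_congr rfl fun γ₁ _ =>
    le_antisymm (m4_seven (ρ := ρ) h3 hγ' δ γ₁ γ 1) (m4_seven h3 hγ' δ γ γ₁ 1), Finset.sum_const,
    Finset.card_univ, card_chars, smul_eq_mul] at h
  exact Nat.eq_of_mul_eq_mul_left (Fintype.card_pos (α := F)) h

end H34.GTwoDeg.Three
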