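import Cfsg.Agent.H34.GTwoDeg.ThreeCases
import Cfsg.Agent.H34.GTwoDeg.NotThree
import Cfsg.Agent.H52.OrderG2
import Cfsg.Agent.H52.TorusCard

/-!
The minimal degree of `G₂(q)` in characteristic three.
-/

set_option autoImplicit false
set_option linter.unusedSectionVars false
set_option linter.style.haveILetI false

namespace H34.GTwoDeg.Three

open Cfsg.Lie H52
open H17.HeisDeg H17.HeisDeg.RootAct
open Module

/-! ### The three degrees next to the bound do not divide the order -/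

theorem not_dvd_two {q : ℕ} (hq : 9 ≤ q) (hodd : Odd q) :
    ¬ q ^ 4 + q ^ 2 - 2 ∣ q ^ 6 * ((q ^ 2 - 1) * (q ^ 6 - 1)) := by
  intro h
  have h1 : 1 ≤ q ^ 2 := Nat.one_le_pow _ _ (by omega)
  have h6 : 1 ≤ q ^ 6 := Nat.one_le_pow _ _ (by omega)
  have e : q ^ 4 + q ^ 2 - 2 = (q ^ 2 - 1) * (q ^ 2 + 2) := by
    obtain ⟨a, ha⟩ : ∃ a, q ^ 2 = a + 1 := ⟨q ^ 2 - 1, by omega⟩
    have h4 : q ^ 4 = (a + 1) * (a + 1) := by rw [← ha]; ring
    rw [h4, ha, Nat.add_sub_cancel]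
    refine Nat.sub_eq_of_eq_add ?_
    ring
  rw [e, mul_left_comm] at h
  have hd := Nat.dvd_of_mul_dvd_mul_left (by nlinarith [Nat.sub_add_cancel h1]) h
  have hd' : ((q : ℤ) ^ 2 + 2) ∣ (q : ℤ) ^ 6 * ((q : ℤ) ^ 6 - 1) := by
    have := Int.natCast_dvd_natCast.2 hd
    push_cast [Nat.cast_sub h6] at this
    exact this
  obtain ⟨m, hm⟩ := hodd
  have hcop : IsCoprime ((q : ℤ) ^ 2 + 2) ((q : ℤ)) :=
    ⟨-(m : ℤ), (q : ℤ) * m + 1, by rw [hm]; push_cast; ring⟩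
  have hd2 := (hcop.pow_right (n := 6)).dvd_of_dvd_mul_left hd'
  have h9 : ((q : ℤ) ^ 2 + 2) ∣ 9 := by
    have := dvd_sub (Dvd.intro ((q : ℤ) ^ 4 - 2 * (q : ℤ) ^ 2 + 4) rfl :
      ((q : ℤ) ^ 2 + 2) ∣ ((q : ℤ) ^ 2 + 2) * ((q : ℤ) ^ 4 - 2 * (q : ℤ) ^ 2 + 4)) hd2
    have e9 : ((q : ℤ) ^ 2 + 2) * ((q : ℤ) ^ 4 - 2 * (q : ℤ) ^ 2 + 4) - ((q : ℤ) ^ 6 - 1) = 9 := by
      ring
    rwa [e9] at this
  have := Int.le_of_dvd (by norm_num) h9
  have : (81 : ℤ) ≤ (q : ℤ) ^ 2 := by exact_mod_cast Nat.pow_le_pow_left hq 2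
  omega

theorem not_dvd_one {q : ℕ} (hq : 9 ≤ q) :
    ¬ q ^ 4 + q ^ 2 - 1 ∣ q ^ 6 * ((q ^ 2 - 1) * (q ^ 6 - 1)) := by
  intro h
  have h1 : 1 ≤ q ^ 2 := Nat.one_le_pow _ _ (by omega)
  have h6 : 1 ≤ q ^ 6 := Nat.one_le_pow _ _ (by omega)
  have h4 : 1 ≤ q ^ 4 + q ^ 2 := by omega
  have hd := Int.natCast_dvd_natCast.2 h
  push_cast [Nat.cast_sub h4, Nat.cast_sub h1, Nat.cast_sub h6] at hd
  set X := (q : ℤ) with hX
  have hcop : IsCoprime (X ^ 4 + X ^ 2 - 1) X := ⟨-1, X ^ 3 + X, by ring⟩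
  have hd2 := (hcop.pow_right (n := 6)).dvd_of_dvd_mul_left hd
  have hr : X ^ 4 + X ^ 2 - 1 ∣ 6 * X ^ 2 - 4 := by
    have := dvd_sub (Dvd.intro (X ^ 4 - 2 * X ^ 2 + 3) rfl :
      (X ^ 4 + X ^ 2 - 1) ∣ (X ^ 4 + X ^ 2 - 1) * (X ^ 4 - 2 * X ^ 2 + 3)) hd2
    have e : (X ^ 4 + X ^ 2 - 1) * (X ^ 4 - 2 * X ^ 2 + 3) - (X ^ 2 - 1) * (X ^ 6 - 1) =
        6 * X ^ 2 - 4 := by ring
    rwa [e] at this
  have h81 : (81 : ℤ) ≤ X ^ 2 := by rw [hX]; exact_mod_cast Nat.pow_le_pow_left hq 2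
  have := Int.le_of_dvd (by linarith) hr
  nlinarith

theorem not_dvd_zero {q : ℕ} (hq : 9 ≤ q) :
    ¬ q ^ 4 + q ^ 2 ∣ q ^ 6 * ((q ^ 2 - 1) * (q ^ 6 - 1)) := by
  intro h
  have h1 : 1 ≤ q ^ 2 := Nat.one_le_pow _ _ (by omega)
  have h6 : 1 ≤ q ^ 6 := Nat.one_le_pow _ _ (by omega)
  have hd := Int.natCast_dvd_natCast.2 h
  push_cast [Nat.cast_sub h1, Nat.cast_sub h6] at hd
  set X := (q : ℤ) with hX
  have hdiv : X ^ 2 + 1 ∣ X ^ 4 + X ^ 2 := Dvd.intro_left (X ^ 2) (by ring)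
  have hcop : IsCoprime (X ^ 2 + 1) X := ⟨1, -X, by ring⟩
  have hd2 := (hcop.pow_right (n := 6)).dvd_of_dvd_mul_left (hdiv.trans hd)
  have hr : X ^ 2 + 1 ∣ 4 := by
    have := dvd_sub hd2 (Dvd.intro (X ^ 6 - 2 * X ^ 4 + 2 * X ^ 2 - 3) rfl :
      (X ^ 2 + 1) ∣ (X ^ 2 + 1) * (X ^ 6 - 2 * X ^ 4 + 2 * X ^ 2 - 3))
    have e : (X ^ 2 - 1) * (X ^ 6 - 1) - (X ^ 2 + 1) * (X ^ 6 - 2 * X ^ 4 + 2 * X ^ 2 - 3) = 4 := by
      ring
    rwa [e] at this
  have h81 : (81 : ℤ) ≤ X ^ 2 := by rw [hX]; exact_mod_cast Nat.pow_le_pow_left hq 2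
  have := Int.le_of_dvd (by norm_num) hr
  omega

variable {F : Type*} [Field F] [Fintype F] {k : ℕ}
  {ρ : Representation ℂ ↥(chevG2.group F) (Fin k → ℂ)}

theorem card_facts (h : Fintype.card F % 3 = 0) (hq : 3 < Fintype.card F) :
    (3 : F) = 0 ∧ 9 ≤ Fintype.card F ∧ Odd (Fintype.card F) := by
  obtain ⟨p, hp⟩ := CharP.exists F
  haveI := hp
  obtain ⟨n, hpr, hn⟩ := FiniteField.card F p
  have hp3 : p = 3 := ((Nat.prime_dvd_prime_iff_eq Nat.prime_three hpr).1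
    (Nat.prime_three.dvd_of_dvd_pow (hn ▸ Nat.dvd_of_mod_eq_zero h))).symm
  subst hp3
  refine ⟨by exact_mod_cast CharP.cast_eq_zero F 3, ?_, hn ▸ (Odd.pow (by decide))⟩
  rw [hn] at hq ⊢
  have h2 : 2 ≤ (n : ℕ) := by
    rcases Nat.lt_or_ge (n : ℕ) 2 with hlt | hge
    · have hn1 : (n : ℕ) = 1 := Nat.le_antisymm (Nat.lt_succ_iff.1 hlt) n.2
      rw [hn1] at hq
      norm_num at hq
    · exact hge
  exact le_trans (by norm_num) (Nat.pow_le_pow_right (by norm_num : 1 ≤ 3) h2)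

/-- The root group of `2a+b` does not act trivially. -/
theorem nine_ne (hρ : ρ.IsIrreducible) (hk : 2 ≤ k) (hq : 2 < Fintype.card F) :
    J ρ [(9, (1 : AddChar F ℂ))] ≠ ⊤ := by
  classical
  haveI : IsSimpleGroup ↥(chevG2.group F) := (group_simple (by simp) fun _ => by
    obtain ⟨a, ha⟩ : ∃ a : F, a ∉ ({0, 1} : Finset F) := by
      by_contra h
      simp only [not_exists, not_not] at h
      have := Finset.card_le_card (fun a (_ : a ∈ (Finset.univ : Finset F)) => h a)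
      have := Finset.card_le_two (a := (0 : F)) (b := 1)
      rw [Finset.card_univ] at *
      omega
    simp only [Finset.mem_insert, Finset.mem_singleton, not_or] at ha
    exact ⟨a, ha⟩).1
  intro htop
  refine xe_ne_one checkedG2 (r := 9) (by rw [nroots12]; norm_num) (one_ne_zero (α := F))
    (eq_one_of_rho_eq_one ρ hρ hk (LinearMap.ext fun v => ?_))
  have hv : v ∈ J ρ [(9, (1 : AddChar F ℂ))] := htop ▸ Submodule.mem_top
  simp only [mem_J_cons] at hv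
  exact hv.1.fixed 1

open Classical in
/-- **The minimal degree of `G₂(q)` in characteristic three.** -/
theorem bound_zero (hρ : ρ.IsIrreducible) (hk : 2 ≤ k) (hq0 : Fintype.card F % 3 = 0)
    (hq3 : 3 < Fintype.card F) : Fintype.card F ^ 4 + Fintype.card F ^ 2 + 1 ≤ k := by
  obtain ⟨h3, hq9, hodd⟩ := card_facts hq0 hq3
  obtain ⟨e, he⟩ := exists_ne_one (F := F)
  have hdeg := degree_eq (ρ := ρ) h3 he he
  rw [finrank_fin_fun] at hdeg
  have hn1 := level_pos (ρ := ρ) h3 he he (nine_ne hρ hk (by omega)) hq3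
  have hL := level_ge (ρ := ρ) h3 he he
  set q := Fintype.card F with hqdef
  set n0 := m4 ρ 1 1 1 e with hn0
  set n1 := m4 ρ 1 1 e e with hn1'
  set L := n3 ρ 1 e 1
  set P := n3 ρ 1 1 1 with hPdef
  obtain ⟨p, hp⟩ : ∃ p, q = p + 1 := ⟨q - 1, by omega⟩
  have hsq : q ^ 2 - 1 = p * p + 2 * p := by
    rw [hp]; exact Nat.sub_eq_of_eq_add (by ring)
  rw [hsq, hp, Nat.add_sub_cancel] at hdeg
  rw [hp, Nat.add_sub_cancel] at hL
  rcases Nat.lt_or_ge n1 2 with hlt | hge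
  · obtain hone : n1 = 1 := by omega
    by_cases hbig : ∃ e' α : AddChar F ℂ, e' ≠ 1 ∧ α ≠ 1 ∧
        1 ≤ finrank ℂ (J ρ [(6, α), (8, (1 : AddChar F ℂ)), (9, e'), (11, 1)])
    · obtain ⟨e', α, he', hα, hne⟩ := hbig
      have h6 := large_of_six h3 he' hα hne
      rw [n3_const h3 he 1 e' 1 (Or.inr he'), ← hqdef, hp, Nat.add_sub_cancel] at h6
      have hp8 : 8 ≤ p := by omega
      have hL' : p + 4 ≤ L := by
        by_contra hc
        have h1 : 6 * L ≤ 6 * (p + 3) := Nat.mul_le_mul_left 6 (by omega)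
        nlinarith
      rw [hdeg, hone, hp]
      have h1 : (p * p + 2 * p) * (p + 4) ≤ (p * p + 2 * p) * L := Nat.mul_le_mul_left _ hL'
      have h2 : p * (p + 1) * ((p * p + 2 * p) * 1) ≤
          p * (p + 1) * (n0 + (p * p + 2 * p) * 1) := Nat.mul_le_mul_left _ (Nat.le_add_left _ _)
      nlinarith
    · have hfix : ∀ e' : AddChar F ℂ, e' ≠ 1 →
          ∀ v ∈ J ρ [(8, (1 : AddChar F ℂ)), (9, e'), (11, 1)], Ev ρ v 6 1 := by
        intro e' he' v hv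
        have hle : finrank ℂ (J ρ [(8, (1 : AddChar F ℂ)), (9, e'), (11, 1)]) ≤
            finrank ℂ (J ρ [(6, (1 : AddChar F ℂ)), (8, 1), (9, e'), (11, 1)]) := by
          rw [J_split 6 _ fun t v hv => stable6_n3 t hv,
            ← Finset.add_sum_erase _ _ (Finset.mem_univ (1 : AddChar F ℂ)),
            Finset.sum_eq_zero fun α hα => ?_, add_zero]
          by_contra hc
          exact hbig ⟨e', α, he', Finset.ne_of_mem_erase hα, Nat.one_le_iff_ne_zero.2 hc⟩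
        rw [← Submodule.eq_of_le_of_finrank_le (J_mono (by simp)) hle] at hv
        simp only [mem_J_cons] at hv
        exact hv.1
      have S : SixFixed ρ e e := ⟨h3, hq3, he, he, hone, hfix⟩
      have hL' : p + 1 ≤ L := by have h := S.level; rw [← hqdef, hp] at h; exact h
      have h0 := S.top_ge
      rw [← hn0] at h0
      have hP : m4 ρ 1 1 1 1 + p * (n0 + p) = P := by
        rw [hPdef, n3_split, ← Finset.add_sum_erase _ _ (Finset.mem_univ (1 : AddChar F ℂ)),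
          Finset.sum_congr rfl fun δ hδ => S.base_eq (Finset.ne_of_mem_erase hδ),
          Finset.sum_const, card_ne_one_chars, smul_eq_mul, ← hn0, ← hqdef, hp, Nat.add_sub_cancel]
      have hp8 : 8 ≤ p := by omega
      have h1 : (p * p + 2 * p) * (p + 1) ≤ (p * p + 2 * p) * L := Nat.mul_le_mul_left _ hL'
      rw [hone, mul_one] at hdeg
      rcases Nat.lt_or_ge n0 2 with h0' | h0'
      · have hn : n0 = 1 := by omega
        have hX := S.fixed_ge (by rw [← hn0]; exact hn)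
        rw [← hqdef, hp, Nat.add_sub_cancel] at hX
        rw [hn] at hdeg hP
        have hlow : q ^ 4 + q ^ 2 ≤ k + 2 := by rw [hdeg, hp]; nlinarith
        have hdvd : k ∣ q ^ 6 * ((q ^ 2 - 1) * (q ^ 6 - 1)) := by
          have hc := g2_card (F := F) divisorsG2
          rw [← hqdef] at hc
          have hr : chevG2.nroots / 2 = 6 := by decide
          rw [hr] at hc
          simp only [List.map_cons, List.map_nil, List.prod_cons, List.prod_nil, mul_one] at hc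
          rw [← hc]
          exact (degree_dvd_order ρ hρ).mul_left _
        by_contra hcon
        rcases (show k = q ^ 4 + q ^ 2 - 2 ∨ k = q ^ 4 + q ^ 2 - 1 ∨ k = q ^ 4 + q ^ 2 by omega) with
          h | h | h
        · exact not_dvd_two hq9 hodd (h ▸ hdvd)
        · exact not_dvd_one hq9 (h ▸ hdvd)
        · exact not_dvd_zero hq9 (h ▸ hdvd)
      · have h2 : p * (2 + p) ≤ p * (n0 + p) := Nat.mul_le_mul_left _ (by omega)
        have h3' : p * (p + 1) * (2 + (p * p + 2 * p)) ≤ p * (p + 1) * (n0 + (p * p + 2 * p)) :=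
          Nat.mul_le_mul_left _ (by omega)
        rw [hdeg, hp]
        nlinarith
  · have hL' : p * 2 ≤ L :=
      (Nat.mul_le_mul_left p hge).trans (by omega)
    have h1 : (p * p + 2 * p) * (p * 2) ≤ (p * p + 2 * p) * L := Nat.mul_le_mul_left _ hL'
    have h2 : p * (p + 1) * ((p * p + 2 * p) * 2) ≤
        p * (p + 1) * (n0 + (p * p + 2 * p) * n1) :=
      Nat.mul_le_mul_left _ ((Nat.mul_le_mul_left _ hge).trans (Nat.le_add_left _ _))
    have hp8 : 8 ≤ p := by omega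
    rw [hdeg, hp]
    nlinarith

end H34.GTwoDeg.Three
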