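import Cfsg.Agent.H34.GTwoDeg.Struct

/-!
Eigenspaces of a torus element of order three are at most about a third of the space.
-/

set_option autoImplicit false
set_option linter.unusedSectionVars false
set_option linter.style.haveILetI false

namespace H34.GTwoDeg

open Cfsg.Lie H52
open H17.HeisDeg H17.HeisDeg.RootAct

theorem p11_9 : pairOK 11 9 [] = true := by decide +kernel
theorem p10_9 : pairOK 10 9 [] = true := by decide +kernel

variable {F : Type*} [Field F] [Fintype F] {V : Type*} [AddCommGroup V] [Module ℂ V]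
  [FiniteDimensional ℂ V] {ρ : Representation ℂ ↥(chevG2.group F) V}

theorem split_nine (γ : AddChar F ℂ) :
    Module.finrank ℂ (J ρ [(9, γ)]) = ∑ ψ : AddChar F ℂ, ∑ δ : AddChar F ℂ, m3 ρ γ δ ψ := by
  rw [J_split 11 _ fun t v hv => by
    simp only [mem_J_cons] at hv ⊢
    exact ⟨hv.1.keep0 p11_9 t, mem_J_nil⟩]
  refine Finset.sum_congr rfl fun ψ _ => ?_
  rw [J_split 10 _ fun t v hv => by
    simp only [mem_J_cons] at hv ⊢
    exact ⟨hv.1.keep0 p10_11 t, hv.2.1.keep0 p10_9 t, mem_J_nil⟩]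
  refine Finset.sum_congr rfl fun δ _ => ?_
  have e : J ρ [(10, δ), (11, ψ), (9, γ)] = J ρ [(9, γ), (10, δ), (11, ψ)] := by
    ext v
    simp only [mem_J_cons]
    tauto
  rw [e]
  rfl

open Classical in
/-- The dimension of an eigenspace of `2a+b`. -/
theorem Small.finrank_nine (S : Small ρ)
    (hA : ∀ γ δ ψ : AddChar F ℂ, ψ ≠ 1 → m3 ρ γ δ ψ = 1) (γ : AddChar F ℂ) :
    Module.finrank ℂ (J ρ [(9, γ)]) = (Fintype.card F - 1) * Fintype.card F +
      (Fintype.card F - 1) + if γ = 1 then Module.finrank ℂ (X ρ) else 0 := by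
  have h11 : m3 ρ γ 1 1 = if γ = 1 then Module.finrank ℂ (X ρ) else 0 := by
    split_ifs with hγ
    · subst hγ
      have e : J ρ [(9, (1 : AddChar F ℂ)), (10, 1), (11, 1)] = X ρ := by
        ext v
        constructor
        · intro h
          simp only [X, mem_J_cons] at h ⊢
          exact h.2
        · intro h
          have h9 := (S.fixed_X h).2.2
          simp only [X, mem_J_cons] at h ⊢
          exact ⟨h9, h⟩
      rw [m3, e]
    · rw [m3, Submodule.finrank_eq_zero, eq_bot_iff]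
      intro v hv
      have hX : v ∈ X ρ := by
        simp only [X, mem_J_cons] at hv ⊢
        exact hv.2
      have h9 := (S.fixed_X hX).2.2
      simp only [mem_J_cons] at hv
      rw [Submodule.mem_bot]
      by_contra hv0
      exact hγ (Eg.eq hv.1 h9 hv0)
  rw [split_nine, ← Finset.add_sum_erase _ _ (Finset.mem_univ (1 : AddChar F ℂ)),
    ← Finset.add_sum_erase _ _ (Finset.mem_univ (1 : AddChar F ℂ)), h11,
    Finset.sum_congr rfl fun δ hδ => S.hB γ δ (Finset.ne_of_mem_erase hδ),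
    Finset.sum_congr rfl fun ψ hψ => Finset.sum_congr rfl fun δ _ =>
      hA γ δ ψ (Finset.ne_of_mem_erase hψ)]
  simp only [Finset.sum_const, card_ne_one_chars, Finset.card_univ, card_chars, smul_eq_mul,
    mul_one]
  ring

/-- The projection on an eigenspace of `2a+b`, times `q`. -/
noncomputable def proj (ρ : Representation ℂ ↥(chevG2.group F) V) (γ : AddChar F ℂ) :
    V →ₗ[ℂ] V :=
  ∑ t : F, γ (-t) • ρ (x 9 t)

theorem proj_apply (γ : AddChar F ℂ) (v : V) :
    proj ρ γ v = ∑ t : F, γ (-t) • ρ (x 9 t) v := by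
  simp [proj]

theorem proj_mem (γ : AddChar F ℂ) (v : V) : proj ρ γ v ∈ J ρ [(9, γ)] := by
  rw [mem_J]
  intro p hp
  obtain rfl := List.mem_singleton.1 hp
  intro s
  show ρ (x 9 s) (proj ρ γ v) = γ s • proj ρ γ v
  rw [proj_apply, map_sum, Finset.smul_sum]
  refine Fintype.sum_equiv (Equiv.addLeft s) _ _ fun t => ?_
  rw [map_smul, ← Module.End.mul_apply, ← map_mul, ← x_add, Equiv.coe_addLeft, smul_smul,
    ← AddChar.map_add_eq_mul, show s + -(s + t) = -t from by ring]

theorem sum_proj (v : V) : ∑ γ : AddChar F ℂ, proj ρ γ v = (Fintype.card F : ℂ) • v := by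
  classical
  simp only [proj_apply]
  rw [Finset.sum_comm]
  simp only [← Finset.sum_smul, AddChar.sum_apply_eq_ite, neg_eq_zero, ite_smul, zero_smul,
    Finset.sum_ite_eq', Finset.mem_univ, if_true, x_zero, map_one, Module.End.one_apply]

theorem proj_tor (ω : Fˣ) (γ : AddChar F ℂ) (v : V) :
    proj ρ γ (ρ (tor ω 1) v) = ρ (tor ω 1) (proj ρ (chScale γ ((ω⁻¹ : Fˣ) : F)) v) := by
  rw [proj_apply, proj_apply, map_sum]
  refine Fintype.sum_equiv (Units.mulLeft ω) _ _ fun t => ?_
  rw [map_smul, ← Module.End.mul_apply, ← map_mul, x_tor ω 1 (by decide), wt9, zpow_one,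
    zpow_zero, mul_one, map_mul, Module.End.mul_apply, Units.mulLeft_apply, chScale_apply,
    show ((ω⁻¹ : Fˣ) : F) * -((ω : F) * t) = -t from by
      rw [mul_neg, ← mul_assoc, Units.inv_mul, one_mul]]

open Module in
/-- An eigenspace of a torus element of order three. -/
theorem Small.eigen_le (S : Small ρ) (hA : ∀ γ δ ψ : AddChar F ℂ, ψ ≠ 1 → m3 ρ γ δ ψ = 1)
    {ω : Fˣ} (hω : orderOf ω = 3) {lam : ℂ} (hl : lam ≠ 0) :
    3 * finrank ℂ (Module.End.eigenspace (ρ (tor ω 1)) lam) ≤
      (Fintype.card F + 2) * ((Fintype.card F - 1) * Fintype.card F + (Fintype.card F - 1)) +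
        3 * finrank ℂ (X ρ) := by
  classical
  obtain ⟨ψ₀, hψ₀⟩ := exists_ne_one (F := F)
  set Vl := Module.End.eigenspace (ρ (tor ω 1)) lam
  let Q := Fˣ ⧸ Subgroup.zpowers ω
  haveI : Fintype Q := Fintype.ofFinite Q
  let rep : Q → AddChar F ℂ := fun Q => chScale ψ₀ ((Quotient.out Q : Fˣ) : F)
  let Φ : Vl →ₗ[ℂ] (J ρ [(9, (1 : AddChar F ℂ))]) × ((r : Q) → J ρ [(9, rep r)]) :=
    ((proj ρ 1).codRestrict _ (proj_mem 1) ∘ₗ Vl.subtype).prod
      (LinearMap.pi fun r => (proj ρ (rep r)).codRestrict _ (proj_mem (rep r)) ∘ₗ Vl.subtype)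
  have hinj : Function.Injective Φ := by
    rw [← LinearMap.ker_eq_bot, LinearMap.ker_eq_bot']
    intro v hv
    have h1 : proj ρ 1 v.1 = 0 := congrArg (fun p => (p.1 : V)) hv
    have hr : ∀ r, proj ρ (rep r) v.1 = 0 := fun r => congrArg (fun p => ((p.2 r) : V)) hv
    have hv' : ρ (tor ω 1) v.1 = lam • v.1 := Module.End.mem_eigenspace_iff.1 v.2
    have hpow : ∀ (n : ℕ) (χ : AddChar F ℂ), proj ρ χ v.1 = 0 →
        proj ρ (chScale χ ((ω ^ n : Fˣ) : F)) v.1 = 0 := by
      intro n
      induction n with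
      | zero => intro χ hχ; rwa [pow_zero, Units.val_one, chScale_id]
      | succ n ih =>
        intro χ hχ
        have h := proj_tor (ρ := ρ) ω (chScale χ ((ω ^ (n + 1) : Fˣ) : F)) v.1
        rw [hv', map_smul, chScale_chScale, ← Units.val_mul,
          show ω ^ (n + 1) * ω⁻¹ = ω ^ n from by rw [pow_succ, mul_inv_cancel_right], ih χ hχ,
          map_zero] at h
        exact (smul_eq_zero.1 h).resolve_left hl
    have hall : ∀ γ : AddChar F ℂ, proj ρ γ v.1 = 0 := by
      intro γ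
      by_cases hγ : γ = 1
      · rw [hγ]; exact h1
      obtain ⟨μ, hμ⟩ := exists_chScale hψ₀ γ
      have hμ0 : μ ≠ 0 := fun h => hγ (by rw [← hμ, h, chScale_nil])
      obtain ⟨z, hz⟩ := QuotientGroup.mk_out_eq_mul (Subgroup.zpowers ω) (Units.mk0 μ hμ0)
      obtain ⟨n, hn⟩ := (mem_powers_iff_mem_zpowers (x := ω)).2 (inv_mem z.2)
      have hμeq : γ = chScale (rep (Units.mk0 μ hμ0 : Fˣ)) ((ω ^ n : Fˣ) : F) := by
        show γ = chScale (chScale ψ₀ _) _
        rw [chScale_chScale, ← Units.val_mul, hz, show ω ^ n = (z : Fˣ)⁻¹ from hn,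
          mul_inv_cancel_right, Units.val_mk0, hμ]
      rw [hμeq]
      exact hpow n _ (hr _)
    have h := sum_proj (ρ := ρ) v.1
    rw [Finset.sum_eq_zero fun γ _ => hall γ] at h
    exact Subtype.ext ((smul_eq_zero.1 h.symm).resolve_left
      (Nat.cast_ne_zero.2 Fintype.card_ne_zero))
  have h := LinearMap.finrank_le_finrank_of_injective hinj
  have hrep : ∀ r, rep r ≠ 1 := fun r => chScale_ne_one hψ₀ (Units.ne_zero _)
  rw [finrank_prod, finrank_pi_fintype, S.finrank_nine hA, if_pos rfl,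
    Finset.sum_congr rfl fun r _ => (S.finrank_nine hA (rep r)).trans (by rw [if_neg (hrep r)]),
    Finset.sum_const, Finset.card_univ, smul_eq_mul, add_zero] at h
  have hc : 3 * Fintype.card Q = Fintype.card F - 1 := by
    have hc := Subgroup.card_eq_card_quotient_mul_card_subgroup (Subgroup.zpowers ω)
    rw [Nat.card_zpowers, hω, Nat.card_units, Nat.card_eq_fintype_card,
      Nat.card_eq_fintype_card] at hc
    rw [mul_comm, hc]
  set M := (Fintype.card F - 1) * Fintype.card F + (Fintype.card F - 1)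
  have hq : 1 ≤ Fintype.card F := Fintype.card_pos
  have h3 := Nat.mul_le_mul_left 3 h
  rw [Nat.mul_add, Nat.mul_add, ← Nat.mul_assoc, hc] at h3
  refine h3.trans (le_of_eq ?_)
  rw [show Fintype.card F + 2 = 3 + (Fintype.card F - 1) from by omega]
  ring

end H34.GTwoDeg
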